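import Groth.Agent.H30.ColimCoh.Main
import Groth.Agent.Lib.Modules.Stalk
import Groth.Agent.Lib.ZarCoh.Compare
import Groth.Agent.Lib.Curves.LES
import Mathlib.CategoryTheory.Limits.Constructions.Filtered

/-!
# Cohomology of coproducts of modules
-/

set_option autoImplicit false
set_option linter.style.haveILetI false

universe u

open CategoryTheory Limits AlgebraicGeometry Opposite TopologicalSpace
open CategoryTheory.Limits.CoproductsFromFiniteFiltered

namespace Groth.Agent.H20.TopRep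

open Groth.Agent.Lib Groth.Agent.Lib.Curves.LES

noncomputable section

variable {X : Scheme.{u}} (A : Type u) [CommRing A] [X.Over (Spec (CommRingCat.of A))]

theorem mapK_add {M N : X.Modules} (φ ψ : M ⟶ N) (n : ℕ) :
    mapK A (φ + ψ) n = mapK A φ n + mapK A ψ n :=
  LinearMap.ext fun x => by
    show Sheaf.H.map (toAbMap (φ + ψ)) n x =
      Sheaf.H.map (toAbMap φ) n x + Sheaf.H.map (toAbMap ψ) n x
    rw [show toAbMap (φ + ψ) = toAbMap φ + toAbMap ψ from (Modules.Stalk.toAbSheaf X).map_add,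
      Sheaf.H.map_apply, Sheaf.H.map_apply, Sheaf.H.map_apply, Abelian.Ext.mk₀_add, Abelian.Ext.comp_add]

theorem mapK_zero {M N : X.Modules} (n : ℕ) : mapK A (0 : M ⟶ N) n = 0 := by
  have h := mapK_add A (0 : M ⟶ N) 0 n
  rw [add_zero] at h
  exact left_eq_add.1 h

theorem mapK_sum {M N : X.Modules} {ι : Type*} (s : Finset ι) (φ : ι → (M ⟶ N)) (n : ℕ) :
    mapK A (∑ i ∈ s, φ i) n = ∑ i ∈ s, mapK A (φ i) n := by
  classical
  induction s using Finset.induction_on with
  | empty => simp [mapK_zero]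
  | insert i s hi ih => rw [Finset.sum_insert hi, Finset.sum_insert hi, mapK_add, ih]

theorem mem_span_of_finite {ι : Type u} [Finite ι] (f : ι → X.Modules) (n : ℕ)
    (y : Coh.HH X (∐ f) n) :
    y ∈ ⨆ i, LinearMap.range (mapK A (Sigma.ι f i) n) := by
  classical
  haveI := Fintype.ofFinite ι
  let π : ∀ k, (∐ f) ⟶ f k := fun k => Sigma.desc fun l => if h : l = k then eqToHom (by rw [h]) else 0
  have hid : ∑ k, π k ≫ Sigma.ι f k = 𝟙 (∐ f) := by
    refine Sigma.hom_ext _ _ fun l => ?_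
    rw [Preadditive.comp_sum, Category.comp_id, Finset.sum_eq_single l]
    · simp [π]
    · intro k _ hk
      simp [π, Ne.symm hk]
    · simp
  have h : y = ∑ k, mapK A (Sigma.ι f k) n (mapK A (π k) n y) := by
    conv_lhs => rw [← LinearMap.id_apply (R := A) y, ← mapK_id, ← hid, mapK_sum, LinearMap.sum_apply]
    exact Finset.sum_congr rfl fun k _ => by rw [mapK_comp, LinearMap.comp_apply]
  rw [h]
  exact Submodule.sum_mem _ fun k _ => Submodule.mem_iSup_of_mem k ⟨_, rfl⟩

variable [CompactSpace X] [QuasiSeparatedSpace X]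

theorem exists_stage {ι : Type u} (f : ι → X.Modules) (n : ℕ) (x : Coh.HH X (∐ f) n) :
    ∃ (S : Finset (Discrete ι)) (y : Coh.HH X ((liftToFinsetObj (Discrete.functor f)).obj S) n),
      mapK A ((finiteSubcoproductsCocone f).ι.app S) n y = x := by
  let D := liftToFinsetObj (Discrete.functor f) ⋙ Modules.Stalk.toAbSheaf X
  let hc := isColimitOfPreserves (Modules.Stalk.toAbSheaf X) (isColimitFiniteSubproductsCocone f)
  let e : colimit D ≅ (Modules.Stalk.toAbSheaf X).obj (∐ f) :=
    (colimit.isColimit D).coconePointUniqueUpToIso hc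
  haveI : CompactSpace ↑X.toTopCat := inferInstanceAs (CompactSpace X)
  haveI : PrespectralSpace ↑X.toTopCat := inferInstanceAs (PrespectralSpace X)
  haveI : QuasiSeparatedSpace ↑X.toTopCat := inferInstanceAs (QuasiSeparatedSpace X)
  obtain ⟨hs, -⟩ := H30.ColimCoh.Main.good (X := X.toTopCat) (U := ⊤) CompactSpace.isCompact_univ D n
  obtain ⟨S, y, hy⟩ := hs (H30.ColimCoh.Main.mapE e.inv n (ZarCoh.Compare.hTop (Coh.toAb (∐ f)) n x))
  refine ⟨S, (ZarCoh.Compare.hTop (Coh.toAb _) n).symm y, (ZarCoh.Compare.hTop (Coh.toAb (∐ f)) n).injective ?_⟩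
  have h1 : H30.ColimCoh.Main.mapE (colimit.ι D S ≫ e.hom) n y =
      ZarCoh.Compare.hTop (Coh.toAb (∐ f)) n x := by
    erw [H30.ColimCoh.Main.mapE_comp, hy, ← H30.ColimCoh.Main.mapE_comp, Iso.inv_hom_id,
      H30.ColimCoh.Main.mapE_id]
  have h2 : colimit.ι D S ≫ e.hom = toAbMap ((finiteSubcoproductsCocone f).ι.app S) :=
      IsColimit.comp_coconePointUniqueUpToIso_hom (colimit.isColimit D) hc S
  have h3 := (congrArg (fun t => H30.ColimCoh.Main.mapE t n y) h2).symm.trans h1
  show ZarCoh.Compare.hTop (Coh.toAb (∐ f)) n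
    (Sheaf.H.map (toAbMap ((finiteSubcoproductsCocone f).ι.app S)) n _) = _
  rw [Sheaf.H.map_apply]
  erw [ZarCoh.Compare.hTop_comp]
  erw [AddEquiv.apply_symm_apply]
  exact h3

theorem mem_span {ι : Type u} (f : ι → X.Modules) (c : Cofan f) (hc : IsColimit c) (n : ℕ)
    (x : Coh.HH X c.pt n) : x ∈ ⨆ i, LinearMap.range (mapK A (c.inj i) n) := by
  let e : (∐ f) ≅ c.pt := (colimit.isColimit (Discrete.functor f)).coconePointUniqueUpToIso hc
  obtain ⟨S, y, hy⟩ := exists_stage A f n (mapK A e.inv n x)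
  have hx : x = mapK A e.hom n (mapK A ((finiteSubcoproductsCocone f).ι.app S) n y) := by
    rw [hy, ← LinearMap.comp_apply, ← mapK_comp, Iso.inv_hom_id, mapK_id, LinearMap.id_apply]
  let g : {s // s ∈ S} → X.Modules := fun s => (Discrete.functor f).obj s.1
  let ψ : (∐ g) ⟶ c.pt := ((finiteSubcoproductsCocone f).ι.app S ≫ e.hom :)
  have hx' : x = mapK A ψ n y := by
    rw [hx]
    exact (LinearMap.congr_fun (mapK_comp A _ _ n) y).symm
  have hmem : y ∈ ⨆ i, LinearMap.range (mapK A (Sigma.ι g i) n) := mem_span_of_finite A g n y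
  rw [hx']
  have hle : (⨆ i, LinearMap.range (mapK A (Sigma.ι g i) n)) ≤
      (⨆ i, LinearMap.range (mapK A (c.inj i) n)).comap (mapK A ψ n) := by
    refine iSup_le fun s => ?_
    rintro _ ⟨w, rfl⟩
    refine Submodule.mem_iSup_of_mem s.1.as ⟨w, ?_⟩
    have h1 : Sigma.ι g s ≫ ψ = c.inj s.1.as := by
      show Sigma.ι g s ≫ Sigma.desc (fun x : {s // s ∈ S} => colimit.ι (Discrete.functor f) x.1) ≫ e.hom = _
      rw [Sigma.ι_desc_assoc]
      exact IsColimit.comp_coconePointUniqueUpToIso_hom _ hc s.1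
    rw [← h1, mapK_comp]
    rfl
  exact hle hmem

end

end Groth.Agent.H20.TopRep
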