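import Groth.Agent.H20.TopRep.DRepr
import Groth.Agent.H56.CurveDual.Heart
import Mathlib.RingTheory.SimpleModule.InjectiveProjective

/-!
# Pairing of cohomology of `O` and of a dualizing module in complementary degrees
-/

set_option autoImplicit false
set_option linter.style.haveILetI false
set_option linter.unusedSectionVars false

universe w v u

open CategoryTheory CategoryTheory.Limits AlgebraicGeometry Opposite

attribute [local instance] HasDerivedCategory.standard

namespace Groth.Agent.H20.TopRep.CurveDual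

open Groth.Agent.Lib
open Groth.Agent.Lib.RightAdjTensor.Scalar (sD sC sD_app_Q)
open Groth.Agent.H20.TopRep.DPair (hh PX scX)

section Inj

open DerivedCategory Groth.Agent.H56.CurveDual

variable {A : Type*} [Category A] [Abelian A] [HasDerivedCategory A]

theorem exists_hom_injective {I : A} [Injective I] (N : DerivedCategory A)
    (α : (homologyFunctor A 0).obj N ⟶ I) :
    ∃ g : N ⟶ (singleFunctor A 0).obj I, (homologyFunctor A 0).map g =
      α ≫ (singleFunctorCompHomologyFunctorIso A 0).inv.app I := by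
  let Z := (TStructure.t.truncGE 0).obj N
  haveI := Heart.isIso_homologyMap_truncGEπ N 0 0 le_rfl
  let β : (homologyFunctor A 0).obj Z ⟶ I :=
    CategoryTheory.inv ((homologyFunctor A 0).map ((TStructure.t.truncGEπ 0).app N)) ≫ α
  haveI := Heart.isIso_homologyMap_truncLTι Z 1 0 (by lia)
  obtain ⟨φ, hφ⟩ := Heart.exists_to_single 0 (TStructure.t.isLE_truncLT_obj Z 1 0 (by lia))
    ((homologyFunctor A 0).map ((TStructure.t.truncLTι 1).app Z) ≫ β)
  let G := (TStructure.t.truncGE 1).obj Z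
  haveI : TStructure.t.IsGE G 1 := inferInstance
  haveI : TStructure.t.IsGE (G⟦(-1 : ℤ)⟧) 2 := TStructure.t.isGE_shift G 1 (-1) 2 (by lia)
  have hW : (G⟦(-1 : ℤ)⟧).IsGE 1 := TStructure.t.isGE_of_ge _ 1 2 (by lia)
  obtain ⟨g, hg⟩ : ∃ g : Z ⟶ (singleFunctor A 0).obj I,
      φ = (TStructure.t.truncLTι 1).app Z ≫ g := Pretriangulated.Triangle.yoneda_exact₂ _
    (Pretriangulated.inv_rot_of_distTriang _ (TStructure.t.triangleLTGE_distinguished 1 Z)) φ
    (Heart.eq_zero_of_injective hW _)
  refine ⟨(TStructure.t.truncGEπ 0).app N ≫ g, ?_⟩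
  have hg' : (homologyFunctor A 0).map g = β ≫ (singleFunctorCompHomologyFunctorIso A 0).inv.app I := by
    rw [← cancel_epi ((homologyFunctor A 0).map ((TStructure.t.truncLTι 1).app Z)), ← Category.assoc,
      ← hφ, hg, Functor.map_comp]
  rw [Functor.map_comp, hg', ← Category.assoc]
  simp [β]

theorem hom_ext_injective {I : A} [Injective I] (N : DerivedCategory A)
    (g : N ⟶ (singleFunctor A 0).obj I) (h : (homologyFunctor A 0).map g = 0) : g = 0 := by
  haveI := Heart.isIso_homologyMap_truncGEπ N 0 0 le_rfl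
  haveI : TStructure.t.IsGE ((singleFunctor A 0).obj I) 0 :=
    (inferInstance : DerivedCategory.IsGE ((singleFunctor A 0).obj I) 0)
  haveI := TStructure.t.isLE_truncLT_obj N 0 (-1) (by lia)
  obtain ⟨g', hg'⟩ : ∃ g' : (TStructure.t.truncGE 0).obj N ⟶ (singleFunctor A 0).obj I,
      g = (TStructure.t.truncGEπ 0).app N ≫ g' := Pretriangulated.Triangle.yoneda_exact₂ _
    (TStructure.t.triangleLTGE_distinguished 0 N) g
    (TStructure.t.zero ((TStructure.t.truncLTι 0).app N ≫ g) (-1) 0 (by lia))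
  have hz : g' = 0 := Heart.eq_zero_to_injective
    (inferInstance : TStructure.t.IsGE ((TStructure.t.truncGE 0).obj N) 0) g' (by
      rw [← cancel_epi ((homologyFunctor A 0).map ((TStructure.t.truncGEπ 0).app N)), comp_zero]
      refine Eq.trans ?_ h
      rw [hg', Functor.map_comp])
  rw [hg', hz, comp_zero]

end Inj

noncomputable section

variable {k : Type u} [Field k] {X : Scheme.{u}} [X.Over (Spec (CommRingCat.of k))]
  [HasExt.{u} X.Modules]

theorem sD_shift (r : Γ(X, ⊤)) (K : DCoh.D X) (n : ℤ) :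
    ((sD r).app K)⟦n⟧' = (sD r).app (K⟦n⟧) := by
  have hQ : ∀ L : CochainComplex X.Modules ℤ,
      ((sD r).app (DerivedCategory.Q.obj L))⟦n⟧' = (sD r).app ((DerivedCategory.Q.obj L)⟦n⟧) := by
    intro L
    let c := (DerivedCategory.Q (C := X.Modules)).commShiftIso n
    have h1 : c.hom.app L ≫ ((sD r).app (DerivedCategory.Q.obj L))⟦n⟧' =
        (sD r).app (DerivedCategory.Q.obj (L⟦n⟧)) ≫ c.hom.app L := by
      rw [sD_app_Q, sD_app_Q]
      have h2 := c.hom.naturality ((sC r).app L)
      refine h2.symm.trans ?_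
      refine congrArg (fun t => DerivedCategory.Q.map t ≫ c.hom.app L) ?_
      ext i
      rfl
    have h3 := (sD r).naturality (c.hom.app L)
    rw [← cancel_epi (c.hom.app L), h1]
    exact h3.symm
  let e := DerivedCategory.Q.objObjPreimageIso K
  have h4 := (sD r).naturality e.hom
  have h5 := (sD r).naturality (e.hom⟦n⟧')
  rw [← cancel_epi (e.hom⟦n⟧'), ← Functor.map_comp]
  refine Eq.trans ?_ h5.symm
  rw [← hQ]
  exact (congrArg (fun t => t⟦n⟧') h4).trans (Functor.map_comp _ _ _)

set_option maxHeartbeats 1600000 in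
/-- Complementary degrees are dual. -/
theorem finrank_eq [CompactSpace X] [QuasiSeparatedSpace X]
    [PreservesFiniteLimits (tilde.functor (CommRingCat.of k))]
    [DCoh.HasRpush (X ↘ Spec (CommRingCat.of k))]
    (hf : DCoh.RpushPreservesQCoh (X ↘ Spec (CommRingCat.of k)))
    {a : DCoh.DQCoh (Spec (CommRingCat.of k)) ⥤ DCoh.DQCoh X}
    (adj : DCoh.RpushQ (X ↘ Spec (CommRingCat.of k)) hf ⊣ a)
    (T : DCoh.DQCoh (Spec (CommRingCat.of k))) (eO : T.obj ≅ DSpec.PS (CommRingCat.of k))
    (hO : (Coh.structureModule X).IsQuasicoherent)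
    (W : X.Modules) (n : ℕ) (e : (a.obj T).obj ≅ (DCoh.inD X W)⟦(n : ℤ)⟧)
    (hv : ∀ M : X.Modules, M.IsQuasicoherent → ∀ p : ℕ, n ≤ p → Subsingleton (Coh.HH X M (p + 1)))
    (p j : ℕ) (hpj : p + j = n) :
    Module.finrank k (Coh.HH X W p) = Module.finrank k (Coh.HH X (Coh.structureModule X) j) := by
  let f := X ↘ Spec (CommRingCat.of k)
  let R := CommRingCat.of k
  haveI := DerivedOX.LeftExists.hasLpull f
  obtain ⟨e0⟩ := DerivedOX.RpushCoprod.nonempty_Lpull_one f
  let A := DerivedOX.PullPushAdj.derivedAdjunction f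
  let η : DSpec.PS R ⟶ (DCoh.Rpush f).obj (PX X) := A.homEquiv _ _ e0.hom
  let Φ : ∀ K : DCoh.D X, (PX X ⟶ K) ≃ (DSpec.PS R ⟶ (DCoh.Rpush f).obj K) :=
    fun K => (Iso.homCongr e0.symm (Iso.refl K)).trans (A.homEquiv _ _)
  have hΦ : ∀ (K : DCoh.D X) (x : PX X ⟶ K), Φ K x = η ≫ (DCoh.Rpush f).map x := fun K x => by
    change A.homEquiv _ _ (e0.symm.inv ≫ x ≫ 𝟙 K) = _
    rw [Category.comp_id]
    exact A.homEquiv_naturality_right _ _
  have hΦs : ∀ (K : DCoh.D X) (r : k) (x : PX X ⟶ K), Φ K ((sD (scX r)).app (PX X) ≫ x) =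
      (sD (DSpec.sc R r)).app (DSpec.PS R) ≫ Φ K x := by
    intro K r x
    rw [hΦ, hΦ, Functor.map_comp, ← Category.assoc]
    erw [RightAdjTensor.Scalar.Rpush_sD f (DSpec.sc R r) (PX X)]
    refine Eq.trans (congrArg (· ≫ _)
      ((sD (DSpec.sc R r)).naturality η)) ?_
    rw [Category.assoc]
    rfl
  let eT : (DCoh.tildeD R).obj (Dual.inD k k) ≅ T.obj := DSpec.e1 R ≪≫ eO.symm
  let θ : Dual.HD k (Dual.inD k k) 0 ≃ₗ[k] k := DMod.Basic.HDinD k
  let G : DCoh.DQCoh X := ⟨(PX X)⟦(j : ℤ)⟧, DRepr.isQCohD_shift _ hO j⟩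
  let V : DCoh.DQCoh (Spec R) := (DCoh.RpushQ f hf).obj G
  let ε : (DCoh.Rpush f).obj (a.obj T).obj ⟶ T.obj := (adj.counit.app T).hom
  have hadj : ∀ (g : G ⟶ a.obj T),
      ((adj.homEquiv G T).symm g).hom = (DCoh.Rpush f).map g.hom ≫ ε := fun g => by
    rw [Adjunction.homEquiv_counit]
    rfl
  have hV : ∀ i : ℤ, (n : ℤ) < i → Subsingleton (DSpec.PS R ⟶ V.obj⟦i⟧) := by
    intro i hi
    obtain ⟨q, hq⟩ : ∃ q : ℕ, (j : ℤ) + i = ((q + 1 : ℕ) : ℤ) := ⟨((j : ℤ) + i - 1).toNat, by lia⟩
    haveI := hv _ hO q (by lia)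
    haveI : Subsingleton (PX X ⟶ (PX X)⟦((q + 1 : ℕ) : ℤ)⟧) :=
      (hh (k := k) (Coh.structureModule X) (q + 1)).toEquiv.subsingleton
    haveI : Subsingleton (DSpec.PS R ⟶ (DCoh.Rpush f).obj ((PX X)⟦((q + 1 : ℕ) : ℤ)⟧)) :=
      (Φ _).symm.subsingleton
    exact (Iso.homCongr (Iso.refl _) (((DCoh.Rpush f).commShiftIso i).symm.app ((PX X)⟦(j : ℤ)⟧) ≪≫
      (DCoh.Rpush f).mapIso ((shiftFunctorAdd' (DCoh.D X) (j : ℤ) i _ hq).app (PX X)).symm)).subsingleton
  obtain ⟨N, eN, -⟩ := DSpec.exists_model R V n hV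
  haveI := DerivedOX.TildeEquiv.full R
  haveI := DerivedOX.TildeEquiv.faithful R
  haveI : Module.Injective k k := Module.injective_of_isSemisimpleRing k k
  haveI : Injective (ModuleCat.of k k) := Module.injective_object_of_injective_module k k
  -- maps into `T` are functionals
  have hex : ∀ l : Dual.HD k N 0 →ₗ[k] Dual.HD k (Dual.inD k k) 0, ∃ g : V.obj ⟶ T.obj,
      ∀ y, DSpec.val R eT (y ≫ g) = l (DSpec.val R eN y) := fun l => by
    obtain ⟨g0, hg0⟩ := exists_hom_injective N (ModuleCat.ofHom l ≫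
      (DerivedCategory.singleFunctorCompHomologyFunctorIso (ModuleCat.{u} k) 0).hom.app
        (ModuleCat.of k k))
    refine ⟨eN.inv ≫ (DCoh.tildeD R).map g0 ≫ eT.hom, fun y => ?_⟩
    rw [DSpec.val_comp R eN eT g0 y]
    change ((DerivedCategory.homologyFunctor _ 0).map g0).hom _ = _
    rw [hg0, Category.assoc]
    erw [Iso.hom_inv_id_app]
    rfl
  have huni : ∀ g : V.obj ⟶ T.obj, (∀ y, DSpec.val R eT (y ≫ g) = 0) → g = 0 := fun g hg => by
    obtain ⟨g1, hg1⟩ := (DCoh.tildeD R).map_surjective (eN.hom ≫ g ≫ eT.inv)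
    have hg' : g = eN.inv ≫ (DCoh.tildeD R).map g1 ≫ eT.hom := by rw [hg1]; simp
    have : g1 = 0 := hom_ext_injective N g1 (ModuleCat.hom_ext (LinearMap.ext fun z => by
      change DMod.Basic.mapHD g1 0 z = 0
      have := hg ((DSpec.val R eN).symm z)
      rwa [hg', DSpec.val_comp R eN eT g1, AddEquiv.apply_symm_apply] at this))
    rw [hg', this, Functor.map_zero, zero_comp, comp_zero]
  -- transposes
  let c := (shiftFunctorAdd' (DCoh.D X) (p : ℤ) (j : ℤ) (n : ℤ) (by lia)).app (DCoh.inD X W)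
  let u : (PX X ⟶ (DCoh.inD X W)⟦(p : ℤ)⟧) → (G ⟶ a.obj T) := fun x =>
    ObjectProperty.homMk (x⟦(j : ℤ)⟧' ≫ c.inv ≫ e.inv)
  let v : (G ⟶ a.obj T) → (PX X ⟶ G.obj) → k := fun g z =>
    θ (DSpec.val R eT (η ≫ (DCoh.Rpush f).map (z ≫ g.hom) ≫ ε))
  have hvs : ∀ (r : k) (g : G ⟶ a.obj T) z, v g ((sD (scX r)).app (PX X) ≫ z) = r * v g z := fun r g z => by
    change θ _ = r * θ _
    rw [← smul_eq_mul, ← map_smul θ]
    refine congrArg θ (Eq.trans (congrArg (DSpec.val R eT) ?_) (DSpec.val_smul R eT r _))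
    rw [← Category.assoc, ← hΦ, Category.assoc, hΦs, hΦ, Category.assoc, Category.assoc]
  let HW := hh (k := k) W p
  let HG := hh (k := k) (Coh.structureModule X) j
  let P : Coh.HH X W p →ₗ[k] Module.Dual k (Coh.HH X (Coh.structureModule X) j) :=
    LinearMap.mk₂ k (fun x z => v (u (HW.symm x)) (HG.symm z))
      (fun x x' z => by
        change θ _ = θ _ + θ _
        simp only [u, map_add, Functor.map_add, Preadditive.add_comp, Preadditive.comp_add]
        simp [Preadditive.comp_add, Preadditive.add_comp, Functor.map_add, map_add])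
      (fun r x z => by
        rw [show HW.symm (r • x) = (sD (scX r)).app (PX X) ≫ HW.symm x by
          rw [AddEquiv.symm_apply_eq, DPair.hh_smul, AddEquiv.apply_symm_apply], smul_eq_mul, ← hvs]
        refine congrArg (fun t => θ (DSpec.val R eT (η ≫ (DCoh.Rpush f).map t ≫ ε))) ?_
        change HG.symm z ≫ ((sD (scX r)).app (PX X) ≫ HW.symm x)⟦(j : ℤ)⟧' ≫ c.inv ≫ e.inv = _
        rw [Functor.map_comp, sD_shift, Category.assoc, ← Category.assoc (HG.symm z)]
        exact congrArg (· ≫ _) ((sD (scX r)).naturality (HG.symm z)))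
      (fun x z z' => by
        change θ _ = θ _ + θ _
        simp [map_add, Preadditive.comp_add, Preadditive.add_comp, Functor.map_add])
      (fun r x z => by
        rw [show HG.symm (r • z) = (sD (scX r)).app (PX X) ≫ HG.symm z by
          rw [AddEquiv.symm_apply_eq, DPair.hh_smul, AddEquiv.apply_symm_apply], smul_eq_mul, hvs])
  have hP : Function.Bijective P := by
    constructor
    · rw [injective_iff_map_eq_zero]
      intro x hx
      have h0 : ((adj.homEquiv G T).symm (u (HW.symm x))).hom = 0 := huni _ fun y => by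
        obtain ⟨z, rfl⟩ := (Φ G.obj).surjective y
        obtain ⟨z', rfl⟩ := HG.symm.surjective z
        have := LinearMap.congr_fun hx z'
        change θ _ = (0 : k) at this
        rw [LinearEquiv.map_eq_zero_iff] at this
        rw [hadj, hΦ]
        refine Eq.trans ?_ this
        refine congrArg (DSpec.val R eT) ?_
        simp
      have h1 : u (HW.symm x) = 0 := by
        apply (adj.homEquiv G T).symm.injective
        refine ObjectProperty.hom_ext _ (h0.trans ?_)
        rw [hadj]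
        exact (((congrArg (· ≫ ε) ((DCoh.Rpush f).map_zero _ _))).trans zero_comp).symm
      have h2 : (HW.symm x)⟦(j : ℤ)⟧' ≫ c.inv ≫ e.inv = 0 := congrArg (fun t : G ⟶ a.obj T => t.hom) h1
      have h3 : HW.symm x = 0 := (shiftFunctor (DCoh.D X) (j : ℤ)).map_injective (by
        rw [Functor.map_zero]
        refine (cancel_mono (c.inv ≫ e.inv)).1 ?_
        rw [zero_comp]
        exact h2)
      exact HW.symm.injective (h3.trans (map_zero _).symm)
    · intro l
      let l' : Dual.HD k N 0 →ₗ[k] Dual.HD k (Dual.inD k k) 0 :=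
        { toFun := fun z => θ.symm (l (HG ((Φ G.obj).symm ((DSpec.val R eN).symm z))))
          map_add' := fun z z' => by
            rw [← map_add, ← map_add l, ← map_add HG]
            refine congrArg (fun t => θ.symm (l (HG t))) ?_
            rw [Equiv.symm_apply_eq, hΦ, Functor.map_add, Preadditive.comp_add, ← hΦ, ← hΦ,
              Equiv.apply_symm_apply, Equiv.apply_symm_apply, map_add]
          map_smul' := fun r z => by
            rw [RingHom.id_apply, ← map_smul θ.symm, ← map_smul l, ← DPair.hh_smul]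
            refine congrArg (fun t => θ.symm (l (HG t))) ?_
            rw [Equiv.symm_apply_eq, hΦs, Equiv.apply_symm_apply, AddEquiv.symm_apply_eq,
              DSpec.val_smul, AddEquiv.apply_symm_apply] }
      obtain ⟨g, hg⟩ := hex l'
      let g' : G ⟶ a.obj T := adj.homEquiv G T (ObjectProperty.homMk g)
      obtain ⟨x0, hx0⟩ := (shiftFunctor (DCoh.D X) (j : ℤ)).map_surjective (g'.hom ≫ e.hom ≫ c.hom)
      refine ⟨HW x0, LinearMap.ext fun z => ?_⟩
      change θ (DSpec.val R eT (η ≫ (DCoh.Rpush f).map (HG.symm z ≫ (HW.symm (HW x0))⟦(j : ℤ)⟧' ≫ c.inv ≫ e.inv) ≫ ε)) = l z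
      rw [AddEquiv.symm_apply_apply, hx0]
      simp only [Category.assoc, Iso.hom_inv_id_assoc, Iso.hom_inv_id, Category.comp_id]
      rw [Functor.map_comp, Category.assoc, ← hadj, Equiv.symm_apply_apply, ← Category.assoc, ← hΦ]
      change θ (DSpec.val R eT (_ ≫ g)) = _
      rw [hg]
      change θ (θ.symm _) = _
      rw [LinearEquiv.apply_symm_apply, AddEquiv.symm_apply_apply, Equiv.symm_apply_apply,
        AddEquiv.apply_symm_apply]
  exact (LinearEquiv.ofBijective P hP).finrank_eq.trans Subspace.dual_finrank_eq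

end

end Groth.Agent.H20.TopRep.CurveDual
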