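import Mathlib.Topology.KrullDimension
import Mathlib.Topology.Irreducible

/-!
# The dimension is attained on an irreducible component
-/

set_option autoImplicit false

open Set TopologicalSpace

namespace Groth.Agent.H20.TopRep

theorem topologicalKrullDim_le_of_components {X : Type*} [TopologicalSpace X] (d : WithBot ℕ∞)
    (h : ∀ Z ∈ irreducibleComponents X, topologicalKrullDim ↥Z ≤ d) : topologicalKrullDim X ≤ d := by
  refine iSup_le fun p => ?_
  obtain ⟨Z, hZp, hLZ, hmax⟩ := exists_preirreducible (p.last : Set X) p.last.2.isPreirreducible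
  have hZne : Z.Nonempty := p.last.2.nonempty.mono hLZ
  have hZ : Z ∈ irreducibleComponents X :=
    ⟨⟨hZne, hZp⟩, fun W hW hZW => le_of_eq (hmax W hW.isPreirreducible hZW)⟩
  have hsub : ∀ i, (p i : Set X) ⊆ range (Subtype.val : Z → X) := fun i => by
    rw [Subtype.range_coe]
    have h1 : p i ≤ p.last := p.monotone (Fin.le_last i)
    exact fun x hx => hLZ (h1 hx)
  let g : Fin (p.length + 1) → IrreducibleCloseds ↥Z := fun i =>
    { carrier := Subtype.val ⁻¹' (p i : Set X)
      isIrreducible' := by
        obtain ⟨x, hx⟩ := (p i).2.nonempty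
        refine ⟨?_, fun u v hu hv => ?_⟩
        rotate_left
        · obtain ⟨u', hu', rfl⟩ := isOpen_induced_iff.1 hu
          obtain ⟨v', hv', rfl⟩ := isOpen_induced_iff.1 hv
          rintro ⟨a, ha, ha'⟩ ⟨b, hb, hb'⟩
          obtain ⟨c, hc, hc'⟩ := (p i).2.isPreirreducible u' v' hu' hv' ⟨a.1, ha, ha'⟩ ⟨b.1, hb, hb'⟩
          obtain ⟨z, rfl⟩ := hsub i hc
          exact ⟨z, hc, hc'⟩
        obtain ⟨z, rfl⟩ := hsub i hx
        exact ⟨z, hx⟩
      isClosed' := (p i).3.preimage continuous_subtype_val }
  have hg : StrictMono g := fun i j hij => by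
    have h1 : p i < p j := p.strictMono hij
    refine lt_of_le_of_ne (fun z hz => h1.le hz) fun he => h1.ne ?_
    have h2 : Subtype.val ⁻¹' (p i : Set X) = (Subtype.val ⁻¹' (p j : Set X) : Set Z) :=
      congrArg (fun c : IrreducibleCloseds ↥Z => (c : Set ↥Z)) he
    have h3 := congrArg (Set.image (Subtype.val : Z → X)) h2
    rw [image_preimage_eq_of_subset (hsub i), image_preimage_eq_of_subset (hsub j)] at h3
    exact IrreducibleCloseds.ext h3
  exact (Order.LTSeries.length_le_krullDim (LTSeries.mk p.length g hg)).trans (h Z hZ)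

end Groth.Agent.H20.TopRep
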