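import Groth.Agent.H20.TopRep.DSpec
import Groth.Agent.H20.TopRep.Rep
import Groth.Agent.Lib.ExtHH.Basic
import Groth.Agent.Lib.DerivedOX.RpushCoprod
import Groth.Agent.Lib.DerivedOX.RpushTriangulated
import Groth.Agent.Lib.WayOut.Scheme
import Groth.Agent.Lib.ShrinkTri.QCohGen
import Groth.Agent.Lib.SchColim29.CohPush
import Groth.Agent.Lib.CohBasics.Closure
import Groth.Agent.Lib.Snapper.Twist

/-!
# Cohomology classes as morphisms in `D(O_X)`
-/

set_option autoImplicit false
set_option linter.style.haveILetI false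
set_option linter.unusedSectionVars false

universe u

open CategoryTheory CategoryTheory.Limits AlgebraicGeometry Opposite

attribute [local instance] HasDerivedCategory.standard

namespace Groth.Agent.H20.TopRep.DPair

open Groth.Agent.Lib Groth.Agent.Lib.Curves.LES
open Groth.Agent.Lib.DerivedOX
open Groth.Agent.Lib.RightAdjTensor.Scalar (sD)

noncomputable section

/-- A quasi-coherent module in one degree. -/
theorem isQCohD_single {Y : Scheme.{u}} (M : Y.Modules) (hM : M.IsQuasicoherent) (n : ℤ) :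
    DCoh.IsQCohD ((DerivedCategory.singleFunctor Y.Modules n).obj M) := fun i => by
  by_cases h : i = n
  · subst h
    exact (SheafOfModules.isQuasicoherent Y.ringCatSheaf).prop_of_iso
      ((DerivedCategory.singleFunctorCompHomologyFunctorIso Y.Modules i).app M).symm hM
  · have hz : IsZero ((DerivedCategory.homologyFunctor Y.Modules i).obj
        ((DerivedCategory.singleFunctor Y.Modules n).obj M)) := by
      rcases lt_or_gt_of_ne h with h | h
      · exact DerivedCategory.isZero_of_isGE _ n i h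
      · exact DerivedCategory.isZero_of_isLE _ n i h
    exact (SheafOfModules.isQuasicoherent Y.ringCatSheaf).prop_of_iso
      ((IsZero.of_iso (isZero_zero Y.Modules) (kernel.ofMono (𝟙 M))).iso hz)
      (haveI := hM; QCoh.Closure.isQCoh_kernel (𝟙 M))

/-- An object without maps from quasi-coherent modules in degrees `< -d` lives in degrees `≥ -d`. -/
theorem isGE_of_hom_zero {Y : Scheme.{u}} (M : DCoh.D Y) (hMq : DCoh.IsQCohD M) (d N : ℕ)
    (hb : DerivedCategory.IsGE M ((0 : ℤ) - N))
    (hzero : ∀ (G : Y.Modules), G.IsQuasicoherent → ∀ m : ℤ, (d : ℤ) < m →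
      ∀ g : (DCoh.inD Y G)⟦m⟧ ⟶ M, g = 0) : DerivedCategory.IsGE M (-(d : ℤ)) := by
  have step : ∀ (j : ℕ), M.IsGE (min (-(d : ℤ)) ((0 : ℤ) - N + j)) := by
    intro j
    induction j with
    | zero =>
      refine (DerivedCategory.isGE_iff M _).2 fun i hi => ?_
      exact DerivedCategory.isZero_of_isGE M ((0 : ℤ) - N) i (by lia)
    | succ j ih =>
      refine (DerivedCategory.isGE_iff M _).2 fun i hi => ?_
      let c := min (-(d : ℤ)) ((0 : ℤ) - N + j)
      by_cases hic : i < c
      · haveI := ih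
        exact DerivedCategory.isZero_of_isGE M c i hic
      obtain rfl : i = c := by lia
      haveI := ih
      obtain ⟨g, hg⟩ := DKey.exists_hom M c _ (𝟙 ((DerivedCategory.homologyFunctor Y.Modules c).obj M))
      let s := ((DerivedCategory.singleFunctors Y.Modules).shiftIso (-c) c 0 (by lia)).app
        ((DerivedCategory.homologyFunctor Y.Modules c).obj M)
      have h0 : g = 0 := by
        have := hzero _ (hMq c) (-c) (by lia) (s.hom ≫ g)
        rw [← cancel_epi s.hom, comp_zero]
        exact this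
      rw [h0, Functor.map_zero] at hg
      have hg' := hg.trans (Category.comp_id _)
      refine (IsZero.iff_id_eq_zero _).2 ?_
      refine (cancel_epi ((DerivedCategory.singleFunctorCompHomologyFunctorIso Y.Modules c).app _).hom).1 ?_
      exact ((Category.comp_id _).trans hg'.symm).trans comp_zero.symm
  have := step N
  simpa using this

variable {k : Type u} [CommRing k] {X : Scheme.{u}} [X.Over (Spec (CommRingCat.of k))]

/-- A scalar as a function on `X`. -/
abbrev scX (r : k) : Γ(X, ⊤) := (X ↘ Spec (CommRingCat.of k)).appTop (DSpec.sc (CommRingCat.of k) r)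

theorem smul_id_eq (M : X.Modules) (r : k) : (r • 𝟙 M : M ⟶ M) = TwSh.scalarEnd M (scX r) := by
  rw [KLin.smul_id]
  refine Scheme.Modules.hom_ext _ _ fun U => ?_
  ext s
  rfl

/-- The structure module in degree zero. -/
abbrev PX (X : Scheme.{u}) : DCoh.D X := DCoh.inD X (Coh.structureModule X)

variable [HasExt.{u} X.Modules]

/-- Maps `O ⟶ F[n]` are cohomology classes. -/
def hh (F : X.Modules) (n : ℕ) : (PX X ⟶ (DCoh.inD X F)⟦(n : ℤ)⟧) ≃+ Coh.HH X F n :=
  Abelian.Ext.homAddEquiv.symm.trans (ExtHH.Basic.extUnitEquiv k F n).toAddEquiv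

theorem hh_smul (F : X.Modules) (n : ℕ) (r : k) (x : PX X ⟶ (DCoh.inD X F)⟦(n : ℤ)⟧) :
    hh (k := k) F n ((sD (scX r)).app (PX X) ≫ x) = r • hh (k := k) F n x := by
  obtain ⟨ξ, rfl⟩ := Abelian.Ext.homAddEquiv.surjective x
  have h : (r • ξ).hom = (sD (scX r)).app (PX X) ≫ ξ.hom := by
    rw [Abelian.Ext.smul_eq_comp_mk₀, DSpec.sD_single, ← smul_id_eq]
    rw [Abelian.Ext.comp_hom, Abelian.Ext.mk₀_hom, ShiftedHom.comp_mk₀]
    rw [Functor.map_smul, CategoryTheory.Functor.map_id, CategoryTheory.Functor.map_smul,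
      CategoryTheory.Functor.map_id, Linear.comp_smul, Category.comp_id,
      Functor.map_smul, CategoryTheory.Functor.map_id, Linear.smul_comp]
    exact congrArg (r • ·) (Category.id_comp _).symm
  change ExtHH.Basic.extUnitEquiv k F n (Abelian.Ext.homAddEquiv.symm _) =
    r • ExtHH.Basic.extUnitEquiv k F n (Abelian.Ext.homAddEquiv.symm _)
  rw [← map_smul, AddEquiv.symm_apply_apply]
  refine congrArg _ ?_
  rw [AddEquiv.symm_apply_eq]
  exact h.symm

theorem hh_natural {K F : X.Modules} (ι : K ⟶ F) (n : ℕ)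
    (y : PX X ⟶ (DCoh.inD X K)⟦(n : ℤ)⟧) :
    hh (k := k) F n (y ≫ ((DerivedCategory.singleFunctor X.Modules 0).map ι)⟦(n : ℤ)⟧') =
      mapK k ι n (hh (k := k) K n y) := by
  obtain ⟨ξ, rfl⟩ := Abelian.Ext.homAddEquiv.surjective y
  have h : (ξ.comp (Abelian.Ext.mk₀ ι) (add_zero n)).hom =
      ξ.hom ≫ ((DerivedCategory.singleFunctor X.Modules 0).map ι)⟦(n : ℤ)⟧' := by
    rw [Abelian.Ext.comp_hom, Abelian.Ext.mk₀_hom, ShiftedHom.comp_mk₀]
  change ExtHH.Basic.extUnitEquiv k F n (Abelian.Ext.homAddEquiv.symm _) =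
    mapK k ι n (ExtHH.Basic.extUnitEquiv k K n (Abelian.Ext.homAddEquiv.symm _))
  rw [AddEquiv.symm_apply_apply, show Abelian.Ext.homAddEquiv.symm
    (Abelian.Ext.homAddEquiv ξ ≫ ((DerivedCategory.singleFunctor X.Modules 0).map ι)⟦(n : ℤ)⟧') =
      ξ.comp (Abelian.Ext.mk₀ ι) (add_zero n) from (AddEquiv.symm_apply_eq _).2 h.symm]
  exact ExtHH.Basic.extHH_comp_mk₀ (𝟭 X.Modules) (𝟙 _) ι n ξ

end

end Groth.Agent.H20.TopRep.DPair
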