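import Groth.Agent.Lib.ProSys.Derived
import Groth.Agent.Lib.DMod.Basic

/-!
# Maps into and out of the extreme cohomology of a bounded object
-/

set_option autoImplicit false
set_option linter.style.haveILetI false

universe w v u

open CategoryTheory CategoryTheory.Limits CategoryTheory.Pretriangulated DerivedCategory

namespace Groth.Agent.H20.TopRep.DKey

open Groth.Agent.Lib

noncomputable section

section General

variable {A : Type u} [Category.{v} A] [Abelian A] [HasDerivedCategory.{w} A]

lemma isIsoLT (M : DerivedCategory A) (a i : ℤ) (hi : i < a) :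
    IsIso ((homologyFunctor A i).map ((TStructure.t.truncLTι a).app M)) :=
  @DerCat.TStruct.isIso_homologyMap_mor₁ _ _ _ _ _ (TStructure.t.triangleLTGE_distinguished a M) a
    (inferInstance : TStructure.t.IsGE ((TStructure.t.truncGE a).obj M) a) i hi

lemma isIsoGE (M : DerivedCategory A) (a i : ℤ) (hi : a ≤ i) :
    IsIso ((homologyFunctor A i).map ((TStructure.t.truncGEπ a).app M)) :=
  @DerCat.TStruct.isIso_homologyMap_mor₂ _ _ _ _ _ (TStructure.t.triangleLTGE_distinguished a M) (a - 1)
    (inferInstance : TStructure.t.IsLE ((TStructure.t.truncLT a).obj M) (a - 1)) i (by lia)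

lemma truncLT_isGE (M : DerivedCategory A) (c a : ℤ) [M.IsGE c] :
    (((TStructure.t (C := A)).truncLT a).obj M).IsGE c := by
  refine (isGE_iff _ _).2 fun i hi => ?_
  by_cases h : i < a
  · haveI := isIsoLT M a i h
    exact (isZero_of_isGE M c i hi).of_iso
      (asIso ((homologyFunctor A i).map ((TStructure.t.truncLTι a).app M)))
  · exact @isZero_of_isLE _ _ _ _ _ (a - 1) i (by lia)
      (inferInstance : TStructure.t.IsLE ((TStructure.t.truncLT a).obj M) (a - 1))

lemma truncGE_isLE (M : DerivedCategory A) (c a : ℤ) [M.IsLE c] :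
    (((TStructure.t (C := A)).truncGE a).obj M).IsLE c := by
  refine (isLE_iff _ _).2 fun i hi => ?_
  by_cases h : a ≤ i
  · haveI := isIsoGE M a i h
    exact (isZero_of_isLE M c i hi).of_iso
      (asIso ((homologyFunctor A i).map ((TStructure.t.truncGEπ a).app M))).symm
  · exact @isZero_of_isGE _ _ _ _ _ a i (by lia)
      (inferInstance : TStructure.t.IsGE ((TStructure.t.truncGE a).obj M) a)

/-- Maps out of the lowest cohomology. -/
theorem exists_hom (M : DerivedCategory A) (c : ℤ) [M.IsGE c] (G : A)
    (φ : G ⟶ (homologyFunctor A c).obj M) :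
    ∃ g : (singleFunctor A c).obj G ⟶ M,
      (homologyFunctor A c).map g = ((singleFunctorCompHomologyFunctorIso A c).app G).hom ≫ φ := by
  haveI : (((TStructure.t (C := A)).truncLT (c + 1)).obj M).IsGE c := truncLT_isGE M c (c + 1)
  haveI : (((TStructure.t (C := A)).truncLT (c + 1)).obj M).IsLE c := by
    simpa using (inferInstance :
      TStructure.t.IsLE ((TStructure.t.truncLT (c + 1)).obj M) (c + 1 - 1))
  haveI := isIsoLT M (c + 1) c (by lia)
  obtain ⟨f, hf⟩ := ProSys.Derived.homology_surjective (X := (singleFunctor A c).obj G) c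
    (((singleFunctorCompHomologyFunctorIso A c).app G).hom ≫ φ ≫
      inv ((homologyFunctor A c).map ((TStructure.t.truncLTι (c + 1)).app M)))
  refine ⟨f ≫ (TStructure.t.truncLTι (c + 1)).app M, ?_⟩
  rw [Functor.map_comp, hf]
  simp

/-- A map out of a single object into the lowest degree is detected on cohomology. -/
theorem eq_zero (M : DerivedCategory A) (c : ℤ) [M.IsGE c] (G : A)
    (g : (singleFunctor A c).obj G ⟶ M) (hg : (homologyFunctor A c).map g = 0) : g = 0 := by
  haveI : (((TStructure.t (C := A)).truncLT (c + 1)).obj M).IsGE c := truncLT_isGE M c (c + 1)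
  haveI : (((TStructure.t (C := A)).truncLT (c + 1)).obj M).IsLE c := by
    simpa using (inferInstance :
      TStructure.t.IsLE ((TStructure.t.truncLT (c + 1)).obj M) (c + 1 - 1))
  have h0 : g ≫ (TStructure.t.truncGEπ (c + 1)).app M = 0 :=
    TStructure.t.zero (g ≫ (TStructure.t.truncGEπ (c + 1)).app M) c (c + 1) (by lia)
  obtain ⟨g', hg'⟩ : ∃ g', g = g' ≫ (TStructure.t.truncLTι (c + 1)).app M :=
    Triangle.coyoneda_exact₂ _ (TStructure.t.triangleLTGE_distinguished (c + 1) M) g h0
  haveI := isIsoLT M (c + 1) c (by lia)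
  have : g' = 0 := DerCat.TStruct.eq_zero_of_homologyMap_eq_zero c g' (by
    rw [← cancel_mono ((homologyFunctor A c).map ((TStructure.t.truncLTι (c + 1)).app M)),
      ← Functor.map_comp, ← hg', hg, zero_comp])
  rw [hg', this, zero_comp]

end General

section Mod

attribute [local instance] HasDerivedCategory.standard

variable {k : Type u} [CommRing k]

/-- Functionals on the top cohomology of an object in degrees `≤ 0` come from maps to `k[0]`. -/
theorem exists_functional (N : Dual.D k) [N.IsLE 0] (l : Dual.HD k N 0 →ₗ[k] k) :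
    ∃ g : N ⟶ Dual.inD k k, ∀ z, DMod.Basic.HDinD k (DMod.Basic.mapHD g 0 z) = l z := by
  let C := ModuleCat.{u} k
  haveI : (((TStructure.t (C := C)).truncGE 0).obj N).IsLE 0 := truncGE_isLE N 0 0
  haveI : (((TStructure.t (C := C)).truncGE 0).obj N).IsGE 0 :=
    (inferInstance : TStructure.t.IsGE ((TStructure.t.truncGE 0).obj N) 0)
  haveI := isIsoGE N 0 0 le_rfl
  let e := (singleFunctorCompHomologyFunctorIso C 0).app (ModuleCat.of k k)
  obtain ⟨f, hf⟩ := ProSys.Derived.homology_surjective
    (X := (TStructure.t.truncGE 0).obj N) (Y := (singleFunctor C 0).obj (ModuleCat.of k k)) 0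
    (inv ((homologyFunctor C 0).map ((TStructure.t.truncGEπ 0).app N)) ≫ ModuleCat.ofHom l ≫ e.inv)
  refine ⟨(TStructure.t.truncGEπ 0).app N ≫ f, fun z => ?_⟩
  have h : (homologyFunctor C 0).map ((TStructure.t.truncGEπ 0).app N ≫ f) ≫ e.hom =
      ModuleCat.ofHom l := by
    rw [Functor.map_comp, hf]; simp
  exact congrArg (fun t => t.hom z) h

end Mod

end

end Groth.Agent.H20.TopRep.DKey
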