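import Groth.Agent.H20.TopRep.DKey

/-!
# Maps from degrees `≤ c` to degrees `≥ c`
-/

set_option autoImplicit false
set_option linter.style.haveILetI false

universe w v u

open CategoryTheory CategoryTheory.Limits CategoryTheory.Pretriangulated DerivedCategory

namespace Groth.Agent.H20.TopRep.DKey

open Groth.Agent.Lib

noncomputable section

variable {A : Type u} [Category.{v} A] [Abelian A] [HasDerivedCategory.{w} A]

/-- Any map on the extreme cohomology comes from a morphism. -/
theorem exists_hom_top (N W : DerivedCategory A) (c : ℤ) [N.IsLE c] [W.IsGE c]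
    (φ : (homologyFunctor A c).obj N ⟶ (homologyFunctor A c).obj W) :
    ∃ g : N ⟶ W, (homologyFunctor A c).map g = φ := by
  haveI : (((TStructure.t (C := A)).truncGE c).obj N).IsLE c := truncGE_isLE N c c
  haveI : (((TStructure.t (C := A)).truncGE c).obj N).IsGE c :=
    (inferInstance : TStructure.t.IsGE ((TStructure.t.truncGE c).obj N) c)
  haveI : (((TStructure.t (C := A)).truncLT (c + 1)).obj W).IsGE c := truncLT_isGE W c (c + 1)
  haveI : (((TStructure.t (C := A)).truncLT (c + 1)).obj W).IsLE c := by
    simpa using (inferInstance :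
      TStructure.t.IsLE ((TStructure.t.truncLT (c + 1)).obj W) (c + 1 - 1))
  haveI := isIsoGE N c c le_rfl
  haveI := isIsoLT W (c + 1) c (by lia)
  obtain ⟨f, hf⟩ := ProSys.Derived.homology_surjective (X := (TStructure.t.truncGE c).obj N) c
    (inv ((homologyFunctor A c).map ((TStructure.t.truncGEπ c).app N)) ≫ φ ≫
      inv ((homologyFunctor A c).map ((TStructure.t.truncLTι (c + 1)).app W)))
  refine ⟨(TStructure.t.truncGEπ c).app N ≫ f ≫ (TStructure.t.truncLTι (c + 1)).app W, ?_⟩
  rw [Functor.map_comp, Functor.map_comp, hf]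
  simp

/-- A morphism is detected on the extreme cohomology. -/
theorem hom_ext_top (N W : DerivedCategory A) (c : ℤ) [N.IsLE c] [W.IsGE c] (g : N ⟶ W)
    (hg : (homologyFunctor A c).map g = 0) : g = 0 := by
  haveI : (((TStructure.t (C := A)).truncGE c).obj N).IsLE c := truncGE_isLE N c c
  haveI : (((TStructure.t (C := A)).truncGE c).obj N).IsGE c :=
    (inferInstance : TStructure.t.IsGE ((TStructure.t.truncGE c).obj N) c)
  haveI : (((TStructure.t (C := A)).truncLT (c + 1)).obj W).IsGE c := truncLT_isGE W c (c + 1)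
  haveI : (((TStructure.t (C := A)).truncLT (c + 1)).obj W).IsLE c := by
    simpa using (inferInstance :
      TStructure.t.IsLE ((TStructure.t.truncLT (c + 1)).obj W) (c + 1 - 1))
  haveI := isIsoGE N c c le_rfl
  haveI := isIsoLT W (c + 1) c (by lia)
  obtain ⟨g', hg'⟩ : ∃ g' : (TStructure.t.truncGE c).obj N ⟶ W,
      g = (TStructure.t.truncGEπ c).app N ≫ g' :=
    Triangle.yoneda_exact₂ _ (TStructure.t.triangleLTGE_distinguished c N) g
      (TStructure.t.zero ((TStructure.t.truncLTι c).app N ≫ g) (c - 1) c (by lia))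
  obtain ⟨g'', hg''⟩ : ∃ g'' : (TStructure.t.truncGE c).obj N ⟶ (TStructure.t.truncLT (c + 1)).obj W,
      g' = g'' ≫ (TStructure.t.truncLTι (c + 1)).app W :=
    Triangle.coyoneda_exact₂ _ (TStructure.t.triangleLTGE_distinguished (c + 1) W) g'
      (TStructure.t.zero (g' ≫ (TStructure.t.truncGEπ (c + 1)).app W) c (c + 1) (by lia))
  have h0 : g'' = 0 := DerCat.TStruct.eq_zero_of_homologyMap_eq_zero c g'' (by
    rw [← cancel_epi ((homologyFunctor A c).map ((TStructure.t.truncGEπ c).app N)),
      ← cancel_mono ((homologyFunctor A c).map ((TStructure.t.truncLTι (c + 1)).app W)),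
      comp_zero, zero_comp, Category.assoc, ← Functor.map_comp, ← hg'', ← Functor.map_comp, ← hg', hg])
  rw [hg', hg'', h0, zero_comp, comp_zero]

end

end Groth.Agent.H20.TopRep.DKey
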