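import Groth.Agent.H20.TopRep.DExt
import Groth.Agent.H20.TopRep.Rep
import Groth.Agent.Lib.ExtHH.Basic
import Groth.Agent.Lib.DerivedOX.RpushCoprod
import Groth.Agent.Lib.DerivedOX.RpushTriangulated
import Groth.Agent.Lib.RightAdjCoh.Main
import Groth.Agent.Lib.CohBasics.Closure
import Groth.Agent.Lib.Snapper.Twist

/-!
# The representing object of the dual of top cohomology embeds in the right adjoint of `Rf_*`
-/

set_option autoImplicit false
set_option linter.style.haveILetI false
set_option linter.unusedSectionVars false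

universe u

open CategoryTheory CategoryTheory.Limits AlgebraicGeometry Opposite

attribute [local instance] HasDerivedCategory.standard

namespace Groth.Agent.H20.TopRep.DPair

open Groth.Agent.Lib Groth.Agent.Lib.Curves.LES
open Groth.Agent.Lib.DerivedOX
open Groth.Agent.Lib.RightAdjTensor.Scalar (sD)

noncomputable section

variable {k : Type u} [CommRing k] {X : Scheme.{u}} [X.Over (Spec (CommRingCat.of k))]
  [HasExt.{u} X.Modules]

set_option maxHeartbeats 1600000 in
/-- The representing module embeds into the lowest cohomology of the right adjoint. -/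
theorem exists_mono [IsProper (X ↘ Spec (CommRingCat.of k))] [IsNoetherianRing k]
    [PreservesFiniteLimits (tilde.functor (CommRingCat.of k))] (d : ℕ)
    (hv : ∀ M : X.Modules, M.IsQuasicoherent → ∀ p : ℕ, d ≤ p → Subsingleton (Coh.HH X M (p + 1)))
    (ω : X.Modules) (hω : ω.IsQuasicoherent) (γ : Coh.HH X ω d →ₗ[k] k)
    (huniv : ∀ (K : X.Modules), K.IsQuasicoherent → ∀ φ : K ⟶ ω, γ.comp (mapK k φ d) = 0 → φ = 0) :
    Coh.IsCoh ω := by
  let f := X ↘ Spec (CommRingCat.of k)
  let S := Spec (CommRingCat.of k)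
  haveI : IsLocallyNoetherian X := LocallyOfFiniteType.isLocallyNoetherian f
  haveI : CompactSpace X := QuasiCompact.compactSpace_of_compactSpace f
  haveI : QuasiSeparatedSpace X := quasiSeparatedSpace_of_quasiSeparated f
  haveI : IsNoetherian X := {}
  haveI := Exists.hasRpush f
  haveI := LeftExists.hasLpull f
  have hf : DCoh.RpushPreservesQCoh f := RightAdjCoh.preservesQCoh f
  obtain ⟨a, ⟨adj⟩⟩ := RightAdjCoh.exists_adj f hf
  obtain ⟨e0⟩ := RpushCoprod.nonempty_Lpull_one f
  let A := PullPushAdj.derivedAdjunction f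
  let η : DSpec.PS (CommRingCat.of k) ⟶ (DCoh.Rpush f).obj (PX X) := A.homEquiv _ _ e0.hom
  -- the comparison of morphisms
  let Φ : ∀ K : DCoh.D X, (PX X ⟶ K) ≃ (DSpec.PS (CommRingCat.of k) ⟶ (DCoh.Rpush f).obj K) := fun K =>
    (Iso.homCongr e0.symm (Iso.refl K)).trans (A.homEquiv _ _)
  have hΦ : ∀ (K : DCoh.D X) (x : PX X ⟶ K), Φ K x = η ≫ (DCoh.Rpush f).map x := fun K x => by
    change A.homEquiv _ _ (e0.symm.inv ≫ x ≫ 𝟙 K) = _
    rw [Category.comp_id]
    exact A.homEquiv_naturality_right _ _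
  have hsub : ∀ (G : X.Modules), G.IsQuasicoherent → ∀ m i : ℤ, (d : ℤ) < m + i →
      Subsingleton (DSpec.PS (CommRingCat.of k) ⟶ ((DCoh.Rpush f).obj ((DCoh.inD X G)⟦m⟧))⟦i⟧) := by
    intro G hG m i hmi
    obtain ⟨p, hp⟩ : ∃ p : ℕ, m + i = ((p + 1 : ℕ) : ℤ) := ⟨(m + i - 1).toNat, by lia⟩
    haveI := hv G hG p (by lia)
    haveI : Subsingleton (PX X ⟶ (DCoh.inD X G)⟦((p + 1 : ℕ) : ℤ)⟧) :=
      (hh (k := k) G (p + 1)).toEquiv.subsingleton
    haveI : Subsingleton (DSpec.PS (CommRingCat.of k) ⟶ (DCoh.Rpush f).obj ((DCoh.inD X G)⟦((p + 1 : ℕ) : ℤ)⟧)) :=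
      (Φ _).symm.subsingleton
    exact (Iso.homCongr (Iso.refl _) (((DCoh.Rpush f).commShiftIso i).symm.app ((DCoh.inD X G)⟦m⟧) ≪≫
      (DCoh.Rpush f).mapIso ((shiftFunctorAdd' (DCoh.D X) m i _ hp).app (DCoh.inD X G)).symm)).subsingleton
  have hq : ∀ (G : X.Modules), G.IsQuasicoherent → ∀ m : ℤ,
      DCoh.IsQCohD ((DCoh.inD X G)⟦m⟧) := fun G hG m =>
    (DCoh.IsQCohD (X := X)).prop_of_iso
      (((DerivedCategory.singleFunctors X.Modules).shiftIso m (-m) 0 (by lia)).app G).symm
      (isQCohD_single G hG (-m))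
  let OS : DCoh.DQCoh S :=
    ⟨DSpec.PS (CommRingCat.of k), isQCohD_single _ (Snapper.Twist.isCoh_structureModule S).1 0⟩
  let M : DCoh.D X := (a.obj OS).obj
  -- no maps from degrees below `-d`
  have hzero : ∀ (G : X.Modules), G.IsQuasicoherent → ∀ m : ℤ, (d : ℤ) < m →
      ∀ g : (DCoh.inD X G)⟦m⟧ ⟶ M, g = 0 := by
    intro G hG m hm g
    let Gq : DCoh.DQCoh X := ⟨_, hq G hG m⟩
    let gq : Gq ⟶ a.obj OS := ObjectProperty.homMk g
    have h0 : ((adj.homEquiv Gq OS).symm gq).hom = 0 :=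
      DSpec.hom_eq_zero (CommRingCat.of k) ((DCoh.RpushQ f hf).obj Gq) (fun i hi => hsub G hG m i (by lia)) _
    have h1 : (adj.homEquiv Gq OS).symm gq = (adj.homEquiv Gq OS).symm 0 := by
      refine ObjectProperty.hom_ext _ (h0.trans ?_)
      rw [Adjunction.homEquiv_counit, Functor.map_zero, zero_comp]
      rfl
    exact congrArg (fun t : Gq ⟶ a.obj OS => t.hom) ((adj.homEquiv Gq OS).symm.injective h1)
  have hMq : DCoh.IsQCohD M := (a.obj OS).property
  -- cohomology starts in degree `-d`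
  haveI hGE : M.IsGE (-(d : ℤ)) := by
    obtain ⟨N, hN⟩ := RightAdjCoh.isGE_a f hf adj
    exact isGE_of_hom_zero M hMq d N (hN OS 0 inferInstance) hzero
  -- the functional as a morphism
  let Gω : DCoh.DQCoh X := ⟨_, hq ω hω (d : ℤ)⟩
  let L : (DSpec.PS (CommRingCat.of k) ⟶ (DCoh.Rpush f).obj Gω.obj) →+ k :=
    { toFun := fun y => γ (hh (k := k) ω d ((Φ _).symm y))
      map_zero' := by
        have : (Φ Gω.obj).symm 0 = 0 := (Equiv.symm_apply_eq _).2 (by rw [hΦ, Functor.map_zero, comp_zero])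
        rw [this, map_zero, map_zero]
      map_add' := fun y y' => by
        have : (Φ Gω.obj).symm (y + y') = (Φ _).symm y + (Φ _).symm y' := by
          rw [Equiv.symm_apply_eq, hΦ, Functor.map_add, Preadditive.comp_add, ← hΦ, ← hΦ,
            Equiv.apply_symm_apply, Equiv.apply_symm_apply]
        rw [this, map_add, map_add] }
  have hL : ∀ (r : k) (y : DSpec.PS (CommRingCat.of k) ⟶ (DCoh.Rpush f).obj Gω.obj),
      L ((sD (DSpec.sc (CommRingCat.of k) r)).app (DSpec.PS (CommRingCat.of k)) ≫ y) = r * L y := by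
    intro r y
    have h : (Φ Gω.obj).symm ((sD (DSpec.sc (CommRingCat.of k) r)).app (DSpec.PS (CommRingCat.of k)) ≫ y) =
        (sD (scX r)).app (PX X) ≫ (Φ _).symm y := by
      rw [Equiv.symm_apply_eq, hΦ, Functor.map_comp, ← Category.assoc]
      erw [RightAdjTensor.Scalar.Rpush_sD f (DSpec.sc (CommRingCat.of k) r) (PX X)]
      refine Eq.trans ?_ (congrArg (· ≫ _) ((sD (DSpec.sc (CommRingCat.of k) r)).naturality η).symm)
      rw [Category.assoc]
      refine congrArg ((sD (DSpec.sc (CommRingCat.of k) r)).app (DSpec.PS (CommRingCat.of k)) ≫ ·) ?_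
      exact ((hΦ _ _).symm.trans (Equiv.apply_symm_apply _ _)).symm
    change γ _ = r * γ _
    rw [h, hh_smul, map_smul, smul_eq_mul]
  haveI := hω
  obtain ⟨gS, hgS⟩ := DSpec.exists_functional (CommRingCat.of k) ((DCoh.RpushQ f hf).obj Gω)
    (fun i hi => hsub ω hω d i (by lia)) L hL
  let g : Gω ⟶ a.obj OS := adj.homEquiv Gω OS (ObjectProperty.homMk gS)
  have hg : ∀ x : PX X ⟶ Gω.obj, x ≫ g.hom = 0 → γ (hh (k := k) ω d x) = 0 := by
    intro x hx
    have h2 : gS = (DCoh.Rpush f).map g.hom ≫ (adj.counit.app OS).hom := by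
      have h3 := congrArg (fun t => t.hom) ((adj.homEquiv Gω OS).symm_apply_apply (ObjectProperty.homMk gS))
      rw [Adjunction.homEquiv_counit] at h3
      exact h3.symm
    have h1 : Φ Gω.obj x ≫ gS = 0 := by
      rw [hΦ, h2, Category.assoc, ← Functor.map_comp_assoc, hx, Functor.map_zero, zero_comp, comp_zero]
    have h4 : L (Φ Gω.obj x) = 0 := hgS _ h1
    change γ (hh (k := k) ω d ((Φ _).symm (Φ _ x))) = 0 at h4
    rwa [Equiv.symm_apply_apply] at h4
  let σ := (DerivedCategory.singleFunctors X.Modules).shiftIso (d : ℤ) (-(d : ℤ)) 0 (by lia)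
  let H := DerivedCategory.homologyFunctor X.Modules (-(d : ℤ))
  let h : ω ⟶ H.obj M :=
    ((DerivedCategory.singleFunctorCompHomologyFunctorIso X.Modules (-(d : ℤ))).app ω).inv ≫
      H.map (σ.inv.app ω ≫ g.hom)
  haveI : Mono h := by
    refine Preadditive.mono_of_kernel_zero ?_
    let ι := kernel.ι h
    haveI : (H.obj M).IsQuasicoherent := hMq _
    have hK : (kernel h).IsQuasicoherent := QCoh.Closure.isQCoh_kernel h
    refine huniv _ hK ι (LinearMap.ext fun z => ?_)
    obtain ⟨y, rfl⟩ := (hh (k := k) (kernel h) d).surjective z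
    have h5 : (DerivedCategory.singleFunctor X.Modules (-(d : ℤ))).map ι ≫ σ.inv.app ω ≫ g.hom = 0 := by
      refine DKey.eq_zero M _ _ _ ?_
      refine (Functor.map_comp _ _ _).trans ?_
      have h6 := (DerivedCategory.singleFunctorCompHomologyFunctorIso X.Modules (-(d : ℤ))).hom.naturality ι
      dsimp at h6
      refine (congrArg (· ≫ _) ((Iso.eq_comp_inv ((DerivedCategory.singleFunctorCompHomologyFunctorIso
        X.Modules (-(d : ℤ))).app ω)).2 h6)).trans ?_
      rw [Category.assoc, Category.assoc]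
      exact (congrArg (_ ≫ ·) (kernel.condition h)).trans comp_zero
    have h7 : ((DerivedCategory.singleFunctor X.Modules 0).map ι)⟦(d : ℤ)⟧' ≫ g.hom = 0 := by
      rw [← cancel_epi (σ.inv.app (kernel h)), comp_zero, ← h5, ← Category.assoc]
      have h8 := σ.inv.naturality ι
      dsimp at h8
      rw [← Category.assoc, h8]
    have h9 := hg (y ≫ ((DerivedCategory.singleFunctor X.Modules 0).map ι)⟦(d : ℤ)⟧')
      (by rw [Category.assoc, h7, comp_zero])
    rw [hh_natural] at h9
    exact h9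
  have hcoh : Coh.IsCoh (H.obj M) := by
    refine (RightAdjCoh.cohPlus_a f hf adj OS ⟨fun i => ?_, 0, inferInstance⟩).1 _
    by_cases hi : i = 0
    · subst hi
      exact CohBasics.Closure.isCoh_of_iso
        ((DerivedCategory.singleFunctorCompHomologyFunctorIso S.Modules 0).app _).symm
        (Snapper.Twist.isCoh_structureModule S)
    · refine SchColim29.CohPush.isCoh_of_isZero ?_
      rcases lt_or_gt_of_ne hi with hi | hi
      · exact DerivedCategory.isZero_of_isGE _ 0 i hi
      · exact DerivedCategory.isZero_of_isLE _ 0 i hi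
  exact CohBasics.Closure.isCoh_of_mono h hcoh

end

end Groth.Agent.H20.TopRep.DPair
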