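import Groth.Agent.H20.TopRep.DSpec
import Groth.Agent.H20.TopRep.DKey2

/-!
# Equivariant maps `Hom(O, V) → Hom(O, T)` on `Spec k`
-/

set_option autoImplicit false
set_option linter.style.haveILetI false

universe u

open CategoryTheory CategoryTheory.Limits AlgebraicGeometry Opposite

attribute [local instance] HasDerivedCategory.standard

namespace Groth.Agent.H20.TopRep.DSpec

open Groth.Agent.Lib
open Groth.Agent.Lib.RightAdjTensor.Scalar (sD)

noncomputable section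

variable (k : CommRingCat.{u}) [PreservesFiniteLimits (tilde.functor k)]

/-- `Hom(O, K)` of a tilde is the cohomology in degree `0`. -/
def val {N : Dual.D k} {K : DCoh.D (Spec k)} (e : (DCoh.tildeD k).obj N ≅ K) :
    (PS k ⟶ K) ≃+ Dual.HD k N 0 :=
  haveI := DerivedOX.TildeEquiv.full k
  haveI := DerivedOX.TildeEquiv.faithful k
  AddEquiv.symm
    { toFun := fun z => (e1 k).inv ≫ (DCoh.tildeD k).map ((DMod.Basic.homUnitEquiv N).symm z) ≫ e.hom
      invFun := fun y => DMod.Basic.homUnitEquiv N ((DCoh.tildeD k).preimage ((e1 k).hom ≫ y ≫ e.inv))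
      left_inv := fun z => by simp
      right_inv := fun y => by simp
      map_add' := fun a b => by
        rw [map_add, Functor.map_add, Preadditive.add_comp, Preadditive.comp_add] }

theorem val_smul {N : Dual.D k} {K : DCoh.D (Spec k)} (e : (DCoh.tildeD k).obj N ≅ K) (r : k)
    (y : PS k ⟶ K) : val k e ((sD (sc k r)).app (PS k) ≫ y) = r • val k e y := by
  obtain ⟨z, rfl⟩ := (val k e).symm.surjective y
  rw [AddEquiv.apply_symm_apply, ← AddEquiv.eq_symm_apply]
  change _ = (e1 k).inv ≫ (DCoh.tildeD k).map ((DMod.Basic.homUnitEquiv N).symm (r • z)) ≫ e.hom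
  have h : (DCoh.tildeD k).map (r • (DMod.Basic.homUnitEquiv N).symm z) =
      (DCoh.tildeD k).map (r • 𝟙 (Dual.inD ↑k ↑k)) ≫
        (DCoh.tildeD k).map ((DMod.Basic.homUnitEquiv N).symm z) := by
    rw [← Functor.map_comp, Linear.smul_comp, Category.id_comp]
  rw [map_smul, h, Category.assoc]
  change (sD (sc k r)).app (PS k) ≫ ((e1 k).inv ≫ _ ≫ e.hom) = _
  rw [← Category.assoc, ← Category.assoc (e1 k).inv ((DCoh.tildeD k).map (r • 𝟙 _))]
  refine congrArg (· ≫ _) ?_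
  rw [Iso.eq_inv_comp, ← cancel_mono (e1 k).hom, e1_smul]
  simp

theorem val_comp {N W : Dual.D k} {K L : DCoh.D (Spec k)} (e : (DCoh.tildeD k).obj N ≅ K)
    (e' : (DCoh.tildeD k).obj W ≅ L) (g : N ⟶ W) (y : PS k ⟶ K) :
    val k e' (y ≫ e.inv ≫ (DCoh.tildeD k).map g ≫ e'.hom) = DMod.Basic.mapHD g 0 (val k e y) := by
  haveI := DerivedOX.TildeEquiv.full k
  haveI := DerivedOX.TildeEquiv.faithful k
  change DMod.Basic.homUnitEquiv W ((DCoh.tildeD k).preimage _) =
    DMod.Basic.mapHD g 0 (DMod.Basic.homUnitEquiv N ((DCoh.tildeD k).preimage _))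
  have h : (DCoh.tildeD k).preimage ((e1 k).hom ≫ (y ≫ e.inv ≫ (DCoh.tildeD k).map g ≫ e'.hom) ≫ e'.inv) =
      (DCoh.tildeD k).preimage ((e1 k).hom ≫ y ≫ e.inv) ≫ g := by
    apply (DCoh.tildeD k).map_injective
    simp
  rw [h]
  change DMod.Basic.mapHD (_ ≫ g) 0 _ = DMod.Basic.mapHD g 0 (DMod.Basic.mapHD _ 0 _)
  simp only [DMod.Basic.mapHD, Functor.map_comp]
  rfl

variable {ω0 : Dual.D k} [ω0.IsGE 0] (T : DCoh.DQCoh (Spec k)) (eT : (DCoh.tildeD k).obj ω0 ≅ T.obj)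

/-- No maps from degrees `< 0` to `T`. -/
theorem hom_eq_zero' (eT : (DCoh.tildeD k).obj ω0 ≅ T.obj) (V : DCoh.DQCoh (Spec k))
    (hV : ∀ i : ℤ, -1 < i → Subsingleton (PS k ⟶ V.obj⟦i⟧)) (g : V.obj ⟶ T.obj) : g = 0 := by
  obtain ⟨N, e, hN⟩ := exists_model k V (-1) hV
  haveI := DerivedOX.TildeEquiv.full k
  haveI := DerivedOX.TildeEquiv.faithful k
  obtain ⟨g', hg'⟩ := (DCoh.tildeD k).map_surjective (e.hom ≫ g ≫ eT.inv)
  have : g' = 0 := DerivedCategory.TStructure.t.zero g' (-1) 0 (by lia)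
  rw [this, Functor.map_zero] at hg'
  rw [← cancel_epi e.hom, ← cancel_mono eT.inv, Category.assoc, ← hg', comp_zero, zero_comp]

/-- Equivariant maps are realised by a unique morphism. -/
theorem exists_rep (eT : (DCoh.tildeD k).obj ω0 ≅ T.obj) (V : DCoh.DQCoh (Spec k))
    (hV : ∀ i : ℤ, 0 < i → Subsingleton (PS k ⟶ V.obj⟦i⟧)) (L : (PS k ⟶ V.obj) →+ Dual.HD k ω0 0)
    (hL : ∀ (r : k) (y : PS k ⟶ V.obj), L ((sD (sc k r)).app (PS k) ≫ y) = r • L y) :
    ∃! g : V.obj ⟶ T.obj, ∀ y : PS k ⟶ V.obj, val k eT (y ≫ g) = L y := by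
  obtain ⟨N, e, hN⟩ := exists_model k V 0 hV
  haveI := DerivedOX.TildeEquiv.full k
  haveI := DerivedOX.TildeEquiv.faithful k
  let l : Dual.HD k N 0 →ₗ[k] Dual.HD k ω0 0 :=
    { toFun := fun z => L ((val k e).symm z)
      map_add' := fun a b => by rw [map_add, map_add]
      map_smul' := fun r z => by
        rw [RingHom.id_apply, ← hL]
        refine congrArg L ?_
        rw [AddEquiv.symm_apply_eq, val_smul, AddEquiv.apply_symm_apply] }
  obtain ⟨g0, hg0⟩ := DKey.exists_hom_top N ω0 0 (ModuleCat.ofHom l)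
  refine ⟨e.inv ≫ (DCoh.tildeD k).map g0 ≫ eT.hom, fun y => ?_, fun g hg => ?_⟩
  · rw [val_comp]
    change ((DerivedCategory.homologyFunctor _ 0).map g0).hom _ = _
    rw [hg0]
    exact congrArg L ((val k e).symm_apply_apply y)
  · obtain ⟨g1, hg1⟩ := (DCoh.tildeD k).map_surjective (e.hom ≫ g ≫ eT.inv)
    have hg' : g = e.inv ≫ (DCoh.tildeD k).map g1 ≫ eT.hom := by rw [hg1]; simp
    have hd : g1 - g0 = 0 := DKey.hom_ext_top N ω0 0 _ (by
      rw [Functor.map_sub, sub_eq_zero, hg0]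
      refine ModuleCat.hom_ext (LinearMap.ext fun z => ?_)
      change DMod.Basic.mapHD g1 0 z = L ((val k e).symm z)
      rw [← hg, hg', val_comp, AddEquiv.apply_symm_apply])
    rw [hg', sub_eq_zero.1 hd]

end

end Groth.Agent.H20.TopRep.DSpec
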