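import Groth.Agent.H20.TopRep.DExt
import Groth.Agent.H20.TopRep.DSpec2
import Groth.Agent.Lib.DerivedOX.RpushCoprod
import Groth.Agent.Lib.DerivedOX.RpushTriangulated
import Groth.Agent.S1767

/-!
# The lowest cohomology of the right adjoint of `Rf_*` represents the dual of top cohomology
-/

set_option autoImplicit false
set_option linter.style.haveILetI false
set_option linter.unusedSectionVars false

universe u

open CategoryTheory CategoryTheory.Limits AlgebraicGeometry Opposite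

attribute [local instance] HasDerivedCategory.standard

namespace Groth.Agent.H20.TopRep.DRepr

open Groth.Agent.Lib Groth.Agent.Lib.Curves.LES
open Groth.Agent.Lib.DerivedOX
open Groth.Agent.Lib.RightAdjTensor.Scalar (sD)
open Groth.Agent.H20.TopRep.DPair (hh PX scX)

noncomputable section

variable {k : Type u} [CommRing k] {X : Scheme.{u}} [X.Over (Spec (CommRingCat.of k))]
  [HasExt.{u} X.Modules]

theorem isQCohD_shift (G : X.Modules) (hG : G.IsQuasicoherent) (m : ℤ) :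
    DCoh.IsQCohD ((DCoh.inD X G)⟦m⟧) :=
  (DCoh.IsQCohD (X := X)).prop_of_iso
    (((DerivedCategory.singleFunctors X.Modules).shiftIso m (-m) 0 (by lia)).app G).symm
    (DPair.isQCohD_single G hG (-m))

/-- Tilde preserves degrees `≥ c`. -/
theorem isGE_tildeD (R : CommRingCat.{u}) [PreservesFiniteLimits (tilde.functor R)] (N : Dual.D R)
    (c : ℤ) [N.IsGE c] : DerivedCategory.IsGE ((DCoh.tildeD R).obj N) c := by
  obtain ⟨G, hG, ⟨e⟩⟩ := DerivedCategory.exists_iso_Q_obj_of_isGE N c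
  haveI : CochainComplex.IsStrictlyGE
      (((tilde.functor R).mapHomologicalComplex (ComplexShape.up ℤ)).obj G) c :=
    (CochainComplex.isStrictlyGE_iff
      (((tilde.functor R).mapHomologicalComplex (ComplexShape.up ℤ)).obj G) c).2 fun i hi =>
      (tilde.functor R).map_isZero (G.isZero_of_isStrictlyGE c i hi)
  haveI h' : DerivedCategory.TStructure.t.IsGE
      (((tilde.functor R).mapHomologicalComplex (ComplexShape.up ℤ) ⋙ DerivedCategory.Q).obj G) c :=
    (inferInstance : DerivedCategory.IsGE (DerivedCategory.Q.obj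
      (((tilde.functor R).mapHomologicalComplex (ComplexShape.up ℤ)).obj G)) c)
  exact DerivedCategory.TStructure.t.isGE_of_iso
    (((DCoh.tildeD R).mapIso e ≪≫ (tilde.functor R).mapDerivedCategoryFactors.app G).symm) c

set_option maxHeartbeats 1600000 in
/-- The universal property. -/
theorem exists_trace [CompactSpace X] [QuasiSeparatedSpace X]
    [PreservesFiniteLimits (tilde.functor (CommRingCat.of k))]
    [DCoh.HasRpush (X ↘ Spec (CommRingCat.of k))]
    (hf : DCoh.RpushPreservesQCoh (X ↘ Spec (CommRingCat.of k)))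
    {a : DCoh.DQCoh (Spec (CommRingCat.of k)) ⥤ DCoh.DQCoh X}
    (adj : DCoh.RpushQ (X ↘ Spec (CommRingCat.of k)) hf ⊣ a)
    (ω0 : Dual.D (CommRingCat.of k)) [ω0.IsGE 0] (T : DCoh.DQCoh (Spec (CommRingCat.of k)))
    (eT : (DCoh.tildeD (CommRingCat.of k)).obj ω0 ≅ T.obj) (d : ℕ)
    (hv : ∀ M : X.Modules, M.IsQuasicoherent → ∀ p : ℕ, d ≤ p → Subsingleton (Coh.HH X M (p + 1))) :
    ∃ τ : Coh.HH X (DCoh.HD (a.obj T).obj (-(d : ℤ))) d →+ Dual.HD (CommRingCat.of k) ω0 0,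
      (∀ (r : k) z, τ (r • z) = r • τ z) ∧
      ∀ (F : X.Modules), F.IsQuasicoherent →
        ∀ ψ : Coh.HH X F d →+ Dual.HD (CommRingCat.of k) ω0 0, (∀ (r : k) z, ψ (r • z) = r • ψ z) →
          ∃! φ : F ⟶ DCoh.HD (a.obj T).obj (-(d : ℤ)), ∀ x, ψ x = τ (mapK k φ d x) := by
  let f := X ↘ Spec (CommRingCat.of k)
  haveI := LeftExists.hasLpull f
  obtain ⟨e0⟩ := RpushCoprod.nonempty_Lpull_one f
  let A := PullPushAdj.derivedAdjunction f
  let η : DSpec.PS (CommRingCat.of k) ⟶ (DCoh.Rpush f).obj (PX X) := A.homEquiv _ _ e0.hom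
  let Φ : ∀ K : DCoh.D X, (PX X ⟶ K) ≃ (DSpec.PS (CommRingCat.of k) ⟶ (DCoh.Rpush f).obj K) :=
    fun K => (Iso.homCongr e0.symm (Iso.refl K)).trans (A.homEquiv _ _)
  have hΦ : ∀ (K : DCoh.D X) (x : PX X ⟶ K), Φ K x = η ≫ (DCoh.Rpush f).map x := fun K x => by
    change A.homEquiv _ _ (e0.symm.inv ≫ x ≫ 𝟙 K) = _
    rw [Category.comp_id]
    exact A.homEquiv_naturality_right _ _
  have hΦs : ∀ (K : DCoh.D X) (r : k) (x : PX X ⟶ K), Φ K ((sD (scX r)).app (PX X) ≫ x) =
      (sD (DSpec.sc (CommRingCat.of k) r)).app (DSpec.PS (CommRingCat.of k)) ≫ Φ K x := by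
    intro K r x
    rw [hΦ, hΦ, Functor.map_comp, ← Category.assoc]
    erw [RightAdjTensor.Scalar.Rpush_sD f (DSpec.sc (CommRingCat.of k) r) (PX X)]
    refine Eq.trans (congrArg (· ≫ _)
      ((sD (DSpec.sc (CommRingCat.of k) r)).naturality η)) ?_
    rw [Category.assoc]
    rfl
  have hsub : ∀ (G : X.Modules), G.IsQuasicoherent → ∀ m i : ℤ, (d : ℤ) < m + i →
      Subsingleton (DSpec.PS (CommRingCat.of k) ⟶ ((DCoh.Rpush f).obj ((DCoh.inD X G)⟦m⟧))⟦i⟧) := by
    intro G hG m i hmi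
    obtain ⟨p, hp⟩ : ∃ p : ℕ, m + i = ((p + 1 : ℕ) : ℤ) := ⟨(m + i - 1).toNat, by lia⟩
    haveI := hv G hG p (by lia)
    haveI : Subsingleton (PX X ⟶ (DCoh.inD X G)⟦((p + 1 : ℕ) : ℤ)⟧) :=
      (hh (k := k) G (p + 1)).toEquiv.subsingleton
    haveI : Subsingleton (DSpec.PS (CommRingCat.of k) ⟶
        (DCoh.Rpush f).obj ((DCoh.inD X G)⟦((p + 1 : ℕ) : ℤ)⟧)) :=
      (Φ _).symm.subsingleton
    exact (Iso.homCongr (Iso.refl _) (((DCoh.Rpush f).commShiftIso i).symm.app ((DCoh.inD X G)⟦m⟧) ≪≫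
      (DCoh.Rpush f).mapIso ((shiftFunctorAdd' (DCoh.D X) m i _ hp).app (DCoh.inD X G)).symm)).subsingleton
  let MQ := a.obj T
  let ε : (DCoh.Rpush f).obj MQ.obj ⟶ T.obj := (adj.counit.app T).hom
  have hadj : ∀ (K : DCoh.DQCoh X) (g : K ⟶ MQ),
      ((adj.homEquiv K T).symm g).hom = (DCoh.Rpush f).map g.hom ≫ ε := fun K g => by
    rw [Adjunction.homEquiv_counit]
    rfl
  have hzero : ∀ (G : X.Modules), G.IsQuasicoherent → ∀ m : ℤ, (d : ℤ) < m →
      ∀ g : (DCoh.inD X G)⟦m⟧ ⟶ MQ.obj, g = 0 := by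
    intro G hG m hm g
    let Gq : DCoh.DQCoh X := ⟨_, isQCohD_shift G hG m⟩
    let gq : Gq ⟶ MQ := ObjectProperty.homMk g
    have h0 : ((adj.homEquiv Gq T).symm gq).hom = 0 :=
      DSpec.hom_eq_zero' (CommRingCat.of k) T eT ((DCoh.RpushQ f hf).obj Gq)
        (fun i hi => hsub G hG m i (by lia)) _
    have h1 : (adj.homEquiv Gq T).symm gq = (adj.homEquiv Gq T).symm 0 := by
      refine ObjectProperty.hom_ext _ (h0.trans ?_)
      rw [hadj]
      exact (((congrArg (· ≫ ε) ((DCoh.Rpush f).map_zero _ _))).trans zero_comp).symm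
    exact congrArg (fun t : Gq ⟶ MQ => t.hom) ((adj.homEquiv Gq T).symm.injective h1)
  haveI hGE : DerivedCategory.IsGE MQ.obj (-(d : ℤ)) := by
    obtain ⟨N, hN⟩ := Groth.Agent.S1767.result X (Spec (CommRingCat.of k)) f hf a adj
    have hT : ∀ i : ℤ, i < 0 → IsZero (DCoh.HD T.obj i) := fun i hi => by
      haveI := isGE_tildeD (CommRingCat.of k) ω0 0
      exact (DerivedCategory.isZero_of_isGE _ 0 i hi).of_iso
        ((DerivedCategory.homologyFunctor _ i).mapIso eT.symm)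
    refine DPair.isGE_of_hom_zero MQ.obj MQ.property d N ((DerivedCategory.isGE_iff _ _).2
      fun i hi => hN T (-1) (fun j hj => hT j (by lia)) i (by lia)) hzero
  let P := DCoh.HD MQ.obj (-(d : ℤ))
  let H := DerivedCategory.homologyFunctor X.Modules (-(d : ℤ))
  let σ := (DerivedCategory.singleFunctors X.Modules).shiftIso (d : ℤ) (-(d : ℤ)) 0 (by lia)
  let E := DerivedCategory.singleFunctorCompHomologyFunctorIso X.Modules (-(d : ℤ))
  obtain ⟨g0c, hg0c⟩ := DKey.exists_hom MQ.obj (-(d : ℤ)) P (𝟙 P)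
  let g0 : (DCoh.inD X P)⟦(d : ℤ)⟧ ⟶ MQ.obj := σ.hom.app P ≫ g0c
  let v := DSpec.val (CommRingCat.of k) eT
  let tr : (PX X ⟶ MQ.obj) → Dual.HD (CommRingCat.of k) ω0 0 := fun u =>
    v (η ≫ (DCoh.Rpush f).map u ≫ ε)
  have htr : ∀ (r : k) u, tr ((sD (scX r)).app (PX X) ≫ u) = r • tr u := fun r u => by
    change v _ = r • v _
    rw [← Category.assoc, ← hΦ, hΦs, hΦ, Category.assoc, Category.assoc, DSpec.val_smul]
  let τ : Coh.HH X P d →+ Dual.HD (CommRingCat.of k) ω0 0 :=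
    AddMonoidHom.mk' (fun z => tr ((hh (k := k) P d).symm z ≫ g0)) (fun z z' => by
      change v _ = v _ + v _
      rw [map_add, Preadditive.add_comp, Functor.map_add, Preadditive.add_comp, Preadditive.comp_add,
        map_add])
  refine ⟨τ, fun r z => ?_, fun F hF ψ hψ => ?_⟩
  · change tr _ = r • tr _
    rw [show (hh (k := k) P d).symm (r • z) = (sD (scX r)).app (PX X) ≫ (hh (k := k) P d).symm z by
      rw [AddEquiv.symm_apply_eq, DPair.hh_smul, AddEquiv.apply_symm_apply], Category.assoc, htr]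
  let Gq : DCoh.DQCoh X := ⟨_, isQCohD_shift F hF (d : ℤ)⟩
  -- the key identity
  have hkey : ∀ (φ : F ⟶ P) (x : PX X ⟶ Gq.obj),
      tr (x ≫ ((DerivedCategory.singleFunctor X.Modules 0).map φ)⟦(d : ℤ)⟧' ≫ g0) =
        τ (mapK k φ d (hh (k := k) F d x)) := fun φ x => by
    change _ = tr ((hh (k := k) P d).symm _ ≫ g0)
    rw [← DPair.hh_natural, AddEquiv.symm_apply_apply, Category.assoc]
  let L : (DSpec.PS (CommRingCat.of k) ⟶ ((DCoh.RpushQ f hf).obj Gq).obj) →+
      Dual.HD (CommRingCat.of k) ω0 0 :=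
    AddMonoidHom.mk' (fun y => ψ (hh (k := k) F d ((Φ Gq.obj).symm y))) (fun y y' => by
      have h : (Φ Gq.obj).symm (y + y') = (Φ _).symm y + (Φ _).symm y' := by
        rw [Equiv.symm_apply_eq, hΦ, Functor.map_add, Preadditive.comp_add, ← hΦ, ← hΦ]
        exact (congrArg₂ (· + ·) ((Φ Gq.obj).apply_symm_apply y) ((Φ Gq.obj).apply_symm_apply y')).symm
      rw [h, map_add, map_add]
      rfl)
  obtain ⟨gS, hgS, huniq⟩ := DSpec.exists_rep (CommRingCat.of k) T eT ((DCoh.RpushQ f hf).obj Gq)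
    (fun i hi => hsub F hF d i (by lia)) L fun r y => by
      change ψ _ = r • ψ _
      rw [← hψ, ← DPair.hh_smul]
      refine congrArg (fun t => ψ (hh (k := k) F d t)) ?_
      rw [Equiv.symm_apply_eq, hΦs, Equiv.apply_symm_apply]
  let gQ : Gq ⟶ MQ := adj.homEquiv Gq T (ObjectProperty.homMk gS)
  have hgQ : (DCoh.Rpush f).map gQ.hom ≫ ε = gS := by
    rw [← hadj, Equiv.symm_apply_apply]
    rfl
  let φ : F ⟶ P := (E.app F).inv ≫ H.map (σ.inv.app F ≫ gQ.hom)
  have hφ : ((DerivedCategory.singleFunctor X.Modules 0).map φ)⟦(d : ℤ)⟧' ≫ g0 = gQ.hom := by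
    rw [← cancel_epi (σ.inv.app F), ← sub_eq_zero]
    refine DKey.eq_zero MQ.obj _ F _ ?_
    have h8 := σ.inv.naturality φ
    dsimp at h8
    rw [Functor.map_sub, sub_eq_zero, ← reassoc_of% h8]
    change H.map (_ ≫ σ.inv.app P ≫ σ.hom.app P ≫ g0c) = _
    rw [Iso.inv_hom_id_app_assoc, H.map_comp, hg0c]
    have h6 := E.hom.naturality φ
    erw [Category.comp_id]
    refine h6.trans ?_
    change E.hom.app F ≫ (E.app F).inv ≫ H.map (σ.inv.app F ≫ gQ.hom) = _
    exact Iso.hom_inv_id_app_assoc E F _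
  refine ⟨φ, fun x => ?_, fun φ' hφ' => ?_⟩
  · obtain ⟨y, rfl⟩ := (hh (k := k) F d).surjective x
    rw [← hkey, hφ]
    change _ = v (η ≫ (DCoh.Rpush f).map (y ≫ gQ.hom) ≫ ε)
    rw [Functor.map_comp, Category.assoc, hgQ, ← Category.assoc, ← hΦ, hgS]
    change _ = ψ (hh (k := k) F d ((Φ Gq.obj).symm (Φ Gq.obj y)))
    rw [Equiv.symm_apply_apply]
  · let g' : Gq.obj ⟶ MQ.obj := ((DerivedCategory.singleFunctor X.Modules 0).map φ')⟦(d : ℤ)⟧' ≫ g0
    have h1 : (DCoh.Rpush f).map g' ≫ ε = gS := huniq _ fun y => by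
      change v _ = ψ _
      rw [hφ', ← hkey]
      change _ = v _
      refine congrArg v ?_
      obtain ⟨x, rfl⟩ := (Φ Gq.obj).surjective y
      rw [Equiv.symm_apply_apply, hΦ]
      simp only [g', Functor.map_comp, Category.assoc]
    have h2 : g' = gQ.hom := by
      have h3 : (ObjectProperty.homMk g' : Gq ⟶ MQ) = gQ := (adj.homEquiv Gq T).symm.injective
        (ObjectProperty.hom_ext _ (by
          rw [hadj, hadj, hgQ]
          exact h1))
      exact congrArg (fun t : Gq ⟶ MQ => t.hom) h3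
    have h4 : H.map (σ.inv.app F ≫ g') = E.hom.app F ≫ φ' := by
      have h8 := σ.inv.naturality φ'
      dsimp at h8
      change H.map (σ.inv.app F ≫ _ ≫ g0) = _
      rw [← reassoc_of% h8]
      change H.map (_ ≫ σ.inv.app P ≫ σ.hom.app P ≫ g0c) = _
      rw [Iso.inv_hom_id_app_assoc, H.map_comp, hg0c]
      have h6 := E.hom.naturality φ'
      erw [Category.comp_id]
      exact h6
    rw [h2] at h4
    change φ' = E.inv.app F ≫ _
    rw [h4, Iso.inv_hom_id_app_assoc]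

end

end Groth.Agent.H20.TopRep.DRepr
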