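import Groth.Agent.H20.TopRep.DKey
import Groth.Agent.Lib.DerivedOX.TildeEquiv
import Groth.Agent.Lib.RightAdjTensor.Scalar

/-!
# Functionals on `Hom(O, V)` for `V` in `D_QCoh(Spec k)` in degrees `≤ 0`
-/

set_option autoImplicit false
set_option linter.style.haveILetI false

universe u

open CategoryTheory CategoryTheory.Limits AlgebraicGeometry Opposite

attribute [local instance] HasDerivedCategory.standard

namespace Groth.Agent.H20.TopRep.DSpec

open Groth.Agent.Lib
open Groth.Agent.Lib.RightAdjTensor.Scalar (sC sD sD_app_Q scalarEnd_natural)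

noncomputable section

/-- Multiplication by a function on a module in degree zero. -/
theorem sD_single {X : Scheme.{u}} (M : X.Modules) (r : Γ(X, ⊤)) :
    (sD r).app (DCoh.inD X M) =
      (DerivedCategory.singleFunctor X.Modules 0).map (TwSh.scalarEnd M r) := by
  let i := DerivedCategory.singleFunctorIsoCompQ X.Modules 0
  have h1 := (sD r).naturality (i.hom.app M)
  have h2 := i.hom.naturality (TwSh.scalarEnd M r)
  have h3 : (sC r).app ((CochainComplex.singleFunctor X.Modules 0).obj M) =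
      (CochainComplex.singleFunctor X.Modules 0).map (TwSh.scalarEnd M r) := by
    refine HomologicalComplex.from_single_hom_ext ?_
    simp only [CochainComplex.singleFunctor, CochainComplex.singleFunctors,
      HomologicalComplex.single_map_f_self]
    rw [← Category.assoc, Iso.eq_comp_inv]
    exact (scalarEnd_natural _ r).symm
  rw [← cancel_mono (i.hom.app M)]
  refine h1.symm.trans (Eq.trans ?_ h2.symm)
  refine congrArg (i.hom.app M ≫ ·) ((sD_app_Q r _).trans ?_)
  exact congrArg DerivedCategory.Q.map h3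

variable (k : CommRingCat.{u})

/-- A scalar as a function on `Spec k`. -/
abbrev sc (r : k) : Γ(Spec k, ⊤) := (Scheme.ΓSpecIso k).inv r

theorem tilde_smul (M : ModuleCat.{u} k) (r : k) :
    (tilde.functor k).map (r • 𝟙 M : M ⟶ M) =
      TwSh.scalarEnd ((tilde.functor k).obj M) (sc k r) := by
  apply (tilde.adjunction.homEquiv _ _).injective
  rw [Adjunction.homEquiv_unit, Adjunction.homEquiv_unit]
  ext m
  have h1 := ConcreteCategory.congr_hom
    (tilde.toOpen_map_app (R := k) (r • 𝟙 M : M ⟶ M) ⊤) m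
  refine h1.trans ?_
  change tilde.toOpen (R := k) M ⊤ (r • m) = _
  erw [map_smul]
  rfl

/-- The structure module in degree zero. -/
abbrev PS : DCoh.D (Spec k) :=
  DCoh.inD (Spec k) (Coh.structureModule (Spec k))

instance additive_tilde : (tilde.functor k).Additive :=
  (tilde.adjunction (R := k)).left_adjoint_additive

/-- `k[0]` corresponds to `O`. -/
def e1 [PreservesFiniteLimits (tilde.functor k)] :
    (DCoh.tildeD k).obj (Dual.inD ↑k ↑k) ≅ PS k :=
  (Functor.mapDerivedCategorySingleFunctor (tilde.functor k) 0).app (ModuleCat.of k k) ≪≫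
    (DerivedCategory.singleFunctor _ 0).mapIso (tildeSelf (R := k))

theorem e1_smul [PreservesFiniteLimits (tilde.functor k)] (r : k) :
    (DCoh.tildeD k).map (r • 𝟙 (Dual.inD ↑k ↑k)) ≫ (e1 k).hom =
      (e1 k).hom ≫ (sD (sc k r)).app (PS k) := by
  have h0 : (r • 𝟙 (Dual.inD ↑k ↑k) : Dual.inD k k ⟶ Dual.inD k k) =
      (DerivedCategory.singleFunctor _ 0).map (r • 𝟙 (ModuleCat.of k k)) := by
    rw [Functor.map_smul, CategoryTheory.Functor.map_id]
  have h1 := (Functor.mapDerivedCategorySingleFunctor (tilde.functor k) 0).hom.naturality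
    (r • 𝟙 (ModuleCat.of k k))
  have h2 := scalarEnd_natural (tildeSelf (R := k)).hom (sc k r)
  rw [h0, sD_single]
  refine (Category.assoc _ _ _).symm.trans ((congrArg (· ≫ _) h1).trans ?_)
  refine (Category.assoc _ _ _).trans (Eq.trans ?_ (Category.assoc _ _ _).symm)
  refine congrArg (_ ≫ ·) ?_
  refine ((DerivedCategory.singleFunctor _ 0).map_comp _ _).symm.trans
    (Eq.trans ?_ ((DerivedCategory.singleFunctor _ 0).map_comp _ _))
  refine congrArg _ ?_
  rw [tilde_smul]
  exact h2.symm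

/-- Objects with `Hom(O, V[i]) = 0` for `i ≥ n` have no cohomology there. -/
theorem exists_model [PreservesFiniteLimits (tilde.functor k)]
    (V : DCoh.DQCoh (Spec k)) (n : ℤ)
    (hV : ∀ i : ℤ, n < i → Subsingleton (PS k ⟶ V.obj⟦i⟧)) :
    ∃ (N : Dual.D k) (_ : (DCoh.tildeD k).obj N ≅ V.obj), N.IsLE n := by
  obtain ⟨N, ⟨e⟩⟩ := DerivedOX.TildeEquiv.exists_preimage k V.obj V.property
  haveI := DerivedOX.TildeEquiv.full k
  haveI := DerivedOX.TildeEquiv.faithful k
  refine ⟨N, e, (DMod.Basic.isLE_iff N n).2 fun i hi => ?_⟩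
  haveI := hV i hi
  let F := DCoh.tildeD k
  let b : (Dual.inD k k ⟶ N⟦i⟧) ≃ (PS k ⟶ V.obj⟦i⟧) :=
    (Functor.FullyFaithful.ofFullyFaithful F).homEquiv.trans
      (Iso.homCongr (e1 k) ((F.commShiftIso i).app N ≪≫ (shiftFunctor _ i).mapIso e))
  haveI : Subsingleton (Dual.inD k k ⟶ N⟦i⟧) := b.subsingleton
  exact (DMod.Basic.homUnitShiftEquiv N i).symm.toEquiv.subsingleton

/-- No maps from degrees `< 0` to `O`. -/
theorem hom_eq_zero [PreservesFiniteLimits (tilde.functor k)]
    (V : DCoh.DQCoh (Spec k))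
    (hV : ∀ i : ℤ, -1 < i → Subsingleton (PS k ⟶ V.obj⟦i⟧)) (g : V.obj ⟶ PS k) : g = 0 := by
  obtain ⟨N, e, hN⟩ := exists_model k V (-1) hV
  haveI := DerivedOX.TildeEquiv.full k
  haveI := DerivedOX.TildeEquiv.faithful k
  obtain ⟨g', hg'⟩ := (DCoh.tildeD k).map_surjective (e.hom ≫ g ≫ (e1 k).inv)
  have : g' = 0 := DerivedCategory.TStructure.t.zero g' (-1) 0 (by lia)
  rw [this, Functor.map_zero] at hg'
  rw [← cancel_epi e.hom, ← cancel_mono (e1 k).inv, Category.assoc, ← hg', comp_zero, zero_comp]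

/-- Linear functionals on `Hom(O, V)` are realised up to kernels by maps to `O`. -/
theorem exists_functional [PreservesFiniteLimits (tilde.functor k)]
    (V : DCoh.DQCoh (Spec k))
    (hV : ∀ i : ℤ, 0 < i → Subsingleton (PS k ⟶ V.obj⟦i⟧)) (L : (PS k ⟶ V.obj) →+ k)
    (hL : ∀ (r : k) (y : PS k ⟶ V.obj), L ((sD (sc k r)).app (PS k) ≫ y) = r * L y) :
    ∃ g : V.obj ⟶ PS k, ∀ y : PS k ⟶ V.obj, y ≫ g = 0 → L y = 0 := by
  obtain ⟨N, e, hN⟩ := exists_model k V 0 hV
  haveI := DerivedOX.TildeEquiv.full k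
  haveI := DerivedOX.TildeEquiv.faithful k
  let F := DCoh.tildeD k
  let u := DMod.Basic.homUnitEquiv N
  let l : Dual.HD k N 0 →ₗ[k] k :=
    { toFun := fun z => L ((e1 k).inv ≫ F.map (u.symm z) ≫ e.hom)
      map_add' := fun a b => by
        rw [map_add, Functor.map_add, Preadditive.add_comp, Preadditive.comp_add, map_add]
      map_smul' := fun r z => by
        have h : F.map (r • u.symm z) = F.map (r • 𝟙 (Dual.inD ↑k ↑k)) ≫ F.map (u.symm z) := by
          rw [← Functor.map_comp, Linear.smul_comp, Category.id_comp]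
        rw [map_smul, h, Category.assoc, RingHom.id_apply, smul_eq_mul, ← hL]
        refine congrArg L ?_
        rw [← Category.assoc, ← Category.assoc ((sD (sc k r)).app (PS k))]
        refine congrArg (· ≫ _) ?_
        rw [Iso.inv_comp_eq, ← cancel_mono (e1 k).hom, e1_smul]
        simp [F] }
  obtain ⟨g, hg⟩ := DKey.exists_functional N l
  refine ⟨e.inv ≫ F.map g ≫ (e1 k).hom, fun y hy => ?_⟩
  obtain ⟨y', hy'⟩ := F.map_surjective ((e1 k).hom ≫ y ≫ e.inv)
  have h0 : y' ≫ g = 0 := F.map_injective (by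
    rw [F.map_comp, F.map_zero, hy', ← cancel_mono (e1 k).hom, zero_comp]
    simp only [Category.assoc]
    rw [hy, comp_zero])
  have h1 : y = (e1 k).inv ≫ F.map y' ≫ e.hom := by rw [hy']; simp
  have h2 : L y = l (u y') := by
    rw [h1]
    change _ = L ((e1 k).inv ≫ F.map (u.symm (u y')) ≫ e.hom)
    rw [LinearEquiv.symm_apply_apply]
  rw [h2, ← hg]
  have h3 : DMod.Basic.mapHD g 0 (u y') = DMod.Basic.homUnitEquiv _ (y' ≫ g) := by
    change DMod.Basic.mapHD g 0 (DMod.Basic.mapHD y' 0 _) = DMod.Basic.mapHD (y' ≫ g) 0 _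
    simp only [DMod.Basic.mapHD, Functor.map_comp]
    rfl
  rw [h3, h0, map_zero, map_zero]

end

end Groth.Agent.H20.TopRep.DSpec
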